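import Mathlib

/-!
# Automorphism groups of odd order of an abelian group of order 8 or 16

with a regular orbit through an involution.
-/

set_option autoImplicit false
set_option linter.unusedSectionVars false
set_option linter.style.haveILetI false

namespace Cfsg.Agent.Lib.InvolutionFree.Auto

variable {D : Type*} [CommGroup D] [Finite D] {A : Subgroup (MulAut D)}

/-- Freeness on the nontrivial elements. -/
def IsFree (A : Subgroup (MulAut D)) : Prop := ∀ α ∈ A, ∀ u : D, u ≠ 1 → α u = u → α = 1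

/-- The fixed points. -/
def fixSub (γ : MulAut D) : Subgroup D := MonoidHom.eqLocus γ.toMonoidHom (MonoidHom.id D)

theorem mem_fixSub {γ : MulAut D} {u : D} : u ∈ fixSub γ ↔ γ u = u := Iff.rfl

theorem pow_fix {γ : MulAut D} {u : D} (h : γ u = u) : ∀ n : ℕ, (γ ^ n) u = u
  | 0 => rfl
  | n + 1 => by rw [pow_succ, MulAut.mul_apply, h, pow_fix h n]

theorem zpow_fix {γ : MulAut D} {u : D} (h : γ u = u) {δ : MulAut D}
    (hδ : δ ∈ Subgroup.zpowers γ) : δ u = u := by
  obtain ⟨n, rfl⟩ := mem_powers_iff_mem_zpowers.mpr hδ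
  exact pow_fix h n

/-- The fixed points of an automorphism of prime order. -/
theorem card_fixSub {n p : ℕ} (hD : Nat.card D = 2 ^ n) (hp : p.Prime) {γ : MulAut D} (h1 : γ ≠ 1)
    (hγ : γ ^ p = 1) :
    ∃ i < n, Nat.card (fixSub γ) = 2 ^ i ∧ 2 ^ i % p = 2 ^ n % p := by
  classical
  haveI : Fact p.Prime := ⟨hp⟩
  have hcl : IsPGroup p (Subgroup.zpowers γ) := by
    refine IsPGroup.of_card (n := 1) ?_
    rw [Nat.card_zpowers, pow_one]
    exact orderOf_eq_prime hγ h1
  have hmod := hcl.card_modEq_card_fixedPoints D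
  have hfix : Nat.card (MulAction.fixedPoints (Subgroup.zpowers γ) D) = Nat.card (fixSub γ) := by
    refine Nat.card_congr (Equiv.subtypeEquivRight fun u => ?_)
    exact ⟨fun h => h ⟨γ, Subgroup.mem_zpowers γ⟩, fun h δ => zpow_fix h δ.2⟩
  rw [hfix, hD] at hmod
  obtain ⟨i, hi, hc⟩ := (Nat.dvd_prime_pow Nat.prime_two).mp
    (hD ▸ Subgroup.card_subgroup_dvd_card (fixSub γ))
  refine ⟨i, lt_of_le_of_ne hi fun e => h1 (MulEquiv.ext fun u => ?_), hc, (hc ▸ hmod).symm⟩
  rw [MulAut.one_apply]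
  exact mem_fixSub.mp
    (Subgroup.eq_top_of_card_eq _ (hc.trans (e ▸ hD.symm)) ▸ Subgroup.mem_top u)

/-- An element of a given prime order. -/
theorem exists_order (p : ℕ) (hp : p.Prime) (h : p ∣ Nat.card A) :
    ∃ γ ∈ A, γ ≠ 1 ∧ γ ^ p = 1 ∧ orderOf γ = p := by
  haveI : Fact p.Prime := ⟨hp⟩
  obtain ⟨γ, hγ⟩ := exists_prime_orderOf_dvd_card' p h
  rw [← Subgroup.orderOf_coe] at hγ
  refine ⟨γ, γ.2, fun e => ?_, hγ ▸ pow_orderOf_eq_one _, hγ⟩
  rw [e, orderOf_one] at hγ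
  exact hp.ne_one hγ.symm

/-- Freeness from the elements of prime order. -/
theorem isFree_of_prime (h : ∀ γ ∈ A, ∀ p : ℕ, p.Prime → p ∣ Nat.card A → γ ≠ 1 → γ ^ p = 1 →
    Nat.card (fixSub γ) = 1) : IsFree A := by
  intro α hα u hu hfix
  by_contra h1
  obtain ⟨p, hp, hpd⟩ := Nat.exists_prime_and_dvd (fun e => h1 (orderOf_eq_one_iff.mp e))
  have h0 : 0 < orderOf α := orderOf_pos _
  have hpA : p ∣ Nat.card A := by
    refine hpd.trans ?_
    have := orderOf_dvd_natCard (⟨α, hα⟩ : A)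
    rwa [Subgroup.orderOf_mk] at this
  set γ := α ^ (orderOf α / p)
  have hγp : γ ^ p = 1 := by
    rw [← pow_mul, Nat.div_mul_cancel hpd, pow_orderOf_eq_one]
  have hγ1 : γ ≠ 1 := pow_ne_one_of_lt_orderOf
    (Nat.div_pos (Nat.le_of_dvd h0 hpd) hp.pos).ne' (Nat.div_lt_self h0 hp.one_lt)
  have hc := h γ (pow_mem hα _) p hp hpA hγ1 hγp
  have := (Nat.card_eq_one_iff_unique.mp hc).1
  exact hu (congrArg Subtype.val
    (Subsingleton.elim (⟨u, pow_fix hfix _⟩ : fixSub γ) 1))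

/-- A free action on a set. -/
theorem card_dvd_of_free {A : Subgroup (MulAut D)} (s : Set D)
    (hs : ∀ γ ∈ A, ∀ u ∈ s, γ u ∈ s)
    (hfree : ∀ γ ∈ A, ∀ u ∈ s, γ u = u → γ = 1) : Nat.card A ∣ Nat.card s := by
  classical
  letI : MulAction A s :=
    { smul := fun γ u => ⟨γ.1 u.1, hs γ.1 γ.2 u.1 u.2⟩
      one_smul := fun _ => rfl
      mul_smul := fun _ _ _ => rfl }
  have horb : ∀ x : s, Nat.card (MulAction.orbit A x) = Nat.card A := fun x => by
    refine (Nat.card_congr (Equiv.ofBijective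
      (fun γ : A => (⟨γ • x, MulAction.mem_orbit x γ⟩ : MulAction.orbit A x)) ⟨fun γ δ h => ?_, ?_⟩)).symm
    · have h' : γ.1 x.1 = δ.1 x.1 := congrArg (fun z => z.1.1) h
      refine Subtype.ext (inv_mul_eq_one.mp (hfree _ (mul_mem (inv_mem δ.2) γ.2) x.1 x.2 ?_)).symm
      rw [MulAut.mul_apply, h']
      exact MulEquiv.symm_apply_apply _ _
    · rintro ⟨_, γ, rfl⟩
      exact ⟨γ, rfl⟩
  haveI := Fintype.ofFinite (Quotient (MulAction.orbitRel A s))
  rw [Nat.card_congr (MulAction.selfEquivSigmaOrbits A s), Nat.card_sigma]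
  exact Finset.dvd_sum fun ω _ => (horb _).symm ▸ dvd_refl _

/-- The number of nontrivial elements of a subgroup. -/
theorem card_ne_one (K : Subgroup D) : Nat.card {u : D | u ∈ K ∧ u ≠ 1} + 1 = Nat.card K := by
  have hs : {u : D | u ∈ K ∧ u ≠ 1} = (K : Set D) \ {1} := by ext u; simp
  have h1 : ((K : Set D) \ {1}).ncard + 1 = (K : Set D).ncard :=
    Set.ncard_diff_singleton_add_one (one_mem K) (Set.toFinite _)
  rw [hs, Nat.card_coe_set_eq]
  exact h1.trans (Nat.card_coe_set_eq _).symm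

variable (D) in
/-- The elements of square one. -/
def twoTor : Subgroup D := MonoidHom.ker (powMonoidHom 2 : D →* D)

theorem mem_twoTor {u : D} : u ∈ twoTor D ↔ u ^ 2 = 1 := Iff.rfl

variable {x : D} (hx : x ^ 2 = 1) (hx1 : x ≠ 1) (hreg : ∀ α ∈ A, α x = x → α = 1)

include hx hx1 hreg in
/-- The orbit lies among the involutions. -/
theorem card_lt_twoTor : Nat.card A < Nat.card (twoTor D) := by
  rw [← card_ne_one (twoTor D)]
  refine Nat.lt_succ_of_le ?_
  refine Nat.card_le_card_of_injective (fun α : A => (⟨α.1 x, ?_, ?_⟩ : {u : D | u ∈ twoTor D ∧ u ≠ 1})) ?_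
  · rw [mem_twoTor, ← map_pow, hx, map_one]
  · exact fun h => hx1 (α.1.map_eq_one_iff.mp h)
  · intro α β h
    have h' : α.1 x = β.1 x := congrArg Subtype.val h
    refine Subtype.ext (inv_mul_eq_one.mp (hreg _ (mul_mem (inv_mem β.2) α.2) ?_)).symm
    rw [MulAut.mul_apply, h']
    exact MulEquiv.symm_apply_apply _ _

include hx hreg in
/-- The squares are fixed when the orbit covers the quotient by the fixed points. -/
theorem sq_mem {F : Subgroup D} (hF : ∀ α ∈ A, ∀ u ∈ F, α u = u) (hFc : ∃ j, Nat.card F = 2 ^ j)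
    (hodd : Odd (Nat.card A)) (hA1 : Nat.card A ≠ 1)
    (hidx : Nat.card D = Nat.card F * (Nat.card A + 1)) (u : D) : u ^ 2 ∈ F := by
  classical
  have hxF : x ∉ F := fun h => hA1 (by
    rw [Nat.card_eq_one_iff_unique]
    exact ⟨⟨fun α β => Subtype.ext ((hreg _ α.2 (hF _ α.2 x h)).trans
      (hreg _ β.2 (hF _ β.2 x h)).symm)⟩, ⟨1⟩⟩)
  have hq : Nat.card (D ⧸ F) = Nat.card A + 1 := by
    have h := Subgroup.card_eq_card_quotient_mul_card_subgroup F
    rw [hidx, mul_comm] at h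
    exact (Nat.eq_of_mul_eq_mul_right Nat.card_pos h).symm
  -- the images of the orbit are distinct
  have hinj : Function.Injective fun α : A => (QuotientGroup.mk (α.1 x) : D ⧸ F) := by
    intro α β h
    have hz : (β.1 x)⁻¹ * α.1 x ∈ F :=
      (QuotientGroup.eq (s := F)).mp h.symm
    set γ := β.1⁻¹ * α.1 with hγ
    have hγA : γ ∈ A := mul_mem (inv_mem β.2) α.2
    obtain ⟨z, hzF, hzx⟩ : ∃ z ∈ F, γ x = x * z := by
      refine ⟨x⁻¹ * γ x, ?_, by rw [mul_inv_cancel_left]⟩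
      have h2 : β.1 (x⁻¹ * γ x) = (β.1 x)⁻¹ * α.1 x := by
        rw [map_mul, map_inv, hγ, MulAut.mul_apply]
        exact congrArg _ (MulEquiv.apply_symm_apply _ _)
      have h3 := hF _ (inv_mem β.2) _ hz
      rw [← h2] at h3
      rw [show x⁻¹ * γ x = β.1⁻¹ (β.1 (x⁻¹ * γ x)) from (MulEquiv.symm_apply_apply _ _).symm,
        h3, h2]
      exact hz
    have hpow : ∀ k : ℕ, (γ ^ k) x = x * z ^ k := fun k => by
      induction k with
      | zero => simp
      | succ k ih =>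
        rw [pow_succ', MulAut.mul_apply, ih, map_mul, hzx, map_pow, hF γ hγA z hzF, pow_succ',
          mul_assoc]
    have hze : z ^ Nat.card A = 1 := by
      have h1 := hpow (Nat.card A)
      have h2 : γ ^ Nat.card A = 1 :=
        congrArg Subtype.val (pow_card_eq_one' (x := (⟨γ, hγA⟩ : A)))
      rw [h2, MulAut.one_apply] at h1
      exact mul_eq_left.mp h1.symm
    obtain ⟨j, hj⟩ := hFc
    have hz2 : z ^ 2 ^ j = 1 := by
      rw [← hj]
      exact congrArg Subtype.val (pow_card_eq_one' (x := (⟨z, hzF⟩ : F)))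
    have hz1 : z = 1 := by
      have h1 := Nat.eq_one_of_dvd_coprimes ((Nat.coprime_two_right.mpr hodd).pow_right j)
        (orderOf_dvd_of_pow_eq_one hze) (orderOf_dvd_of_pow_eq_one hz2)
      exact orderOf_eq_one_iff.mp h1
    rw [hz1, mul_one] at hzx
    exact Subtype.ext (inv_mul_eq_one.mp (hreg γ hγA hzx)).symm
  -- so every nontrivial class is one of them
  haveI := Fintype.ofFinite A
  haveI := Fintype.ofFinite (D ⧸ F)
  set I := (Finset.univ : Finset A).image fun α : A => (QuotientGroup.mk (α.1 x) : D ⧸ F) with hI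
  have h1I : (1 : D ⧸ F) ∉ I := by
    intro h
    obtain ⟨α, -, hα⟩ := Finset.mem_image.mp h
    have h2 := hF _ (inv_mem α.2) _ ((QuotientGroup.eq_one_iff _).mp hα)
    have h3 : x = α.1 x := (MulEquiv.symm_apply_apply α.1 x).symm.trans h2
    exact hxF (h3.symm ▸ (QuotientGroup.eq_one_iff _).mp hα)
  have htop : insert (1 : D ⧸ F) I = Finset.univ := Finset.eq_univ_of_card _ (by
    rw [Finset.card_insert_of_notMem h1I, hI, Finset.card_image_of_injective _ hinj,
      Finset.card_univ, ← Nat.card_eq_fintype_card, ← Nat.card_eq_fintype_card, hq])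
  rw [← QuotientGroup.eq_one_iff, QuotientGroup.mk_pow]
  rcases Finset.mem_insert.mp (htop ▸ Finset.mem_univ (QuotientGroup.mk u : D ⧸ F)) with h | h
  · rw [h, one_pow]
  · obtain ⟨α, -, hα⟩ := Finset.mem_image.mp h
    rw [← hα, ← QuotientGroup.mk_pow, ← map_pow, hx, map_one, QuotientGroup.mk_one]

/-- A common fixed subgroup of an action of prime order. -/
theorem exists_fixed {n p : ℕ} (hD : Nat.card D = 2 ^ n) (hp : p.Prime) (hA : Nat.card A = p) :
    ∃ F : Subgroup D, (∀ α ∈ A, ∀ u ∈ F, α u = u) ∧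
      (∀ α ∈ A, ∀ u, u ∉ F → α u = u → α = 1) ∧
      ∃ i < n, Nat.card F = 2 ^ i ∧ 2 ^ i % p = 2 ^ n % p := by
  obtain ⟨γ, hγ, hγ1, hγp, hord⟩ := exists_order (A := A) p hp (hA ▸ dvd_refl _)
  have hgen : ∀ δ ∈ A, δ ≠ 1 → ∀ α ∈ A, α ∈ Subgroup.zpowers δ := fun δ hδ hδ1 α hα => by
    have h : Subgroup.zpowers δ = A := Subgroup.eq_of_le_of_card_ge (Subgroup.zpowers_le.mpr hδ) (by
      rw [Nat.card_zpowers, hA]
      refine le_of_eq ((orderOf_eq_prime (p := p) (hp := ⟨hp⟩) ?_ hδ1).symm)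
      exact congrArg Subtype.val (hA ▸ pow_card_eq_one' (x := (⟨δ, hδ⟩ : A))))
    rw [h]; exact hα
  obtain ⟨i, hi, hc, hmod⟩ := card_fixSub hD hp hγ1 hγp
  refine ⟨fixSub γ, fun α hα u hu => zpow_fix hu (hgen γ hγ hγ1 α hα), fun α hα u hu h => ?_,
    i, hi, hc, hmod⟩
  by_contra hα1
  exact hu (zpow_fix h (hgen α hα hα1 γ hγ))

/-- The cases. -/
inductive Shape (A : Subgroup (MulAut D)) : Prop
  | trivial : Nat.card A = 1 → Shape A
  | three : Nat.card D = 16 → Nat.card A = 3 → IsFree A → Shape A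
  | nine : Nat.card D = 16 → Nat.card A = 9 → (∀ u : D, u ^ 2 = 1) → Shape A
  | five : Nat.card D = 16 → Nat.card A = 5 → IsFree A → (∀ u : D, u ^ 2 = 1) → Shape A
  | transitive : Nat.card A + 1 = Nat.card D → IsFree A → (∀ u : D, u ^ 2 = 1) →
      (∃ σ ∈ A, orderOf σ = Nat.card A) → Shape A
  | fixed (F : Subgroup D) : (∀ α ∈ A, ∀ u ∈ F, α u = u) →
      (∀ α ∈ A, ∀ u, u ∉ F → α u = u → α = 1) → (∀ u : D, u ^ 2 ∈ F) →
      ((Nat.card D = 16 ∧ Nat.card A = 3 ∧ Nat.card F = 4) ∨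
        (Nat.card D = 8 ∧ Nat.card A = 3 ∧ Nat.card F = 2) ∨
        (Nat.card D = 16 ∧ Nat.card A = 7 ∧ Nat.card F = 2)) → Shape A

theorem isFree_of_card_fix {F : Subgroup D} (h : ∀ α ∈ A, ∀ u, u ∉ F → α u = u → α = 1)
    (hF : Nat.card F = 1) : IsFree A := fun α hα u hu hfix => h α hα u (fun hm => hu (by
  haveI := (Nat.card_eq_one_iff_unique.mp hF).1
  exact congrArg Subtype.val (Subsingleton.elim (⟨u, hm⟩ : F) 1))) hfix

/-- An element of order fifteen. -/
theorem exists_gen_fifteen (hA : Nat.card A = 15) : ∃ σ ∈ A, orderOf σ = 15 := by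
  obtain ⟨γ, hγ, hγ1, hγp, hγo⟩ := exists_order (A := A) 5 Nat.prime_five (by omega)
  obtain ⟨δ, hδ, hδ1, hδp, hδo⟩ := exists_order (A := A) 3 Nat.prime_three (by omega)
  have hz : Nat.card (Subgroup.zpowers (⟨γ, hγ⟩ : A)) = 5 := by
    rw [Nat.card_zpowers, Subgroup.orderOf_mk, hγo]
  haveI hn : (Subgroup.zpowers (⟨γ, hγ⟩ : A)).Normal := by
    refine Subgroup.normal_of_index_eq_minFac_card ?_
    have h := Subgroup.card_mul_index (Subgroup.zpowers (⟨γ, hγ⟩ : A))
    rw [hz, hA] at h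
    rw [hA, show Nat.minFac 15 = 3 by norm_num]
    omega
  obtain ⟨k, hk⟩ := mem_powers_iff_mem_zpowers.mpr
    (hn.conj_mem _ (Subgroup.mem_zpowers _) (⟨δ, hδ⟩ : A))
  have hk' : δ * γ * δ⁻¹ = γ ^ k := (congrArg Subtype.val hk).symm
  have hconj : ∀ j : ℕ, δ ^ j * γ * (δ ^ j)⁻¹ = γ ^ k ^ j := fun j => by
    induction j with
    | zero => simp
    | succ j ih =>
      calc δ ^ (j + 1) * γ * (δ ^ (j + 1))⁻¹ = δ * (δ ^ j * γ * (δ ^ j)⁻¹) * δ⁻¹ := by
            rw [pow_succ']; group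
        _ = δ * γ ^ k ^ j * δ⁻¹ := by rw [ih]
        _ = (δ * γ * δ⁻¹) ^ k ^ j := by rw [conj_pow]
        _ = γ ^ k ^ (j + 1) := by rw [hk', ← pow_mul, pow_succ']
  have h3 := hconj 3
  rw [hδp, one_mul, inv_one, mul_one] at h3
  have hmod : k ^ 3 % 5 = 1 := by
    have h4 : k ^ 3 ≡ 1 [MOD 5] := by
      rw [← hγo, ← pow_eq_pow_iff_modEq, ← h3, pow_one]
    exact h4
  have hk1 : k % 5 = 1 := by
    rw [Nat.pow_mod] at hmod
    have := Nat.mod_lt k (show 0 < 5 by norm_num)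
    interval_cases hh : k % 5 <;> simp at hmod ⊢
  have hcomm : Commute δ γ := by
    have e : γ ^ k = γ := by
      rw [← pow_mod_orderOf, hγo, hk1, pow_one]
    rw [e] at hk'
    exact mul_inv_eq_iff_eq_mul.mp hk'
  refine ⟨δ * γ, mul_mem hδ hγ, ?_⟩
  rw [hcomm.orderOf_mul_eq_mul_orderOf_of_coprime (by rw [hδo, hγo]; norm_num), hδo, hγo]

include hx hx1 hreg in
theorem shape (hD : Nat.card D = 8 ∨ Nat.card D = 16) (hodd : Odd (Nat.card A)) : Shape A := by
  classical
  obtain ⟨n, hn, hn34⟩ : ∃ n, Nat.card D = 2 ^ n ∧ (n = 3 ∨ n = 4) := by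
    rcases hD with h | h
    · exact ⟨3, h.trans (by norm_num), .inl rfl⟩
    · exact ⟨4, h.trans (by norm_num), .inr rfl⟩
  have hlt := card_lt_twoTor hx hx1 hreg
  have hTD : Nat.card (twoTor D) ∣ 2 ^ n := hn ▸ Subgroup.card_subgroup_dvd_card _
  have hTle : Nat.card (twoTor D) ≤ 2 ^ n := Nat.le_of_dvd (by positivity) hTD
  obtain ⟨t, ht, hT⟩ := (Nat.dvd_prime_pow Nat.prime_two).mp hTD
  have hsq : Nat.card (twoTor D) = 2 ^ n → ∀ u : D, u ^ 2 = 1 := fun h u =>
    mem_twoTor.mp (Subgroup.eq_top_of_card_eq _ (h.trans hn.symm) ▸ Subgroup.mem_top u)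
  have hbig : 2 ^ n < 2 * (Nat.card A + 1) → ∀ u : D, u ^ 2 = 1 := fun h => hsq (by
    rw [hT] at hlt ⊢
    rcases hn34 with rfl | rfl <;> interval_cases t <;> simp_all <;> omega)
  have hprime : ∀ p : ℕ, p.Prime → p ∣ Nat.card A →
      ∃ i < n, 2 ^ i % p = 2 ^ n % p := fun p hp hd => by
    obtain ⟨γ, -, h1, hγp, -⟩ := exists_order (A := A) p hp hd
    obtain ⟨i, hi, -, hm⟩ := card_fixSub hn hp h1 hγp
    exact ⟨i, hi, hm⟩
  have hle : Nat.card A < 2 ^ n := lt_of_lt_of_le hlt hTle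
  have hpos : 0 < Nat.card A := Nat.card_pos
  obtain ⟨s, hs⟩ := hodd
  have hcases : Nat.card A = 1 ∨ Nat.card A = 3 ∨ Nat.card A = 5 ∨ Nat.card A = 7 ∨
      Nat.card A = 9 ∨ Nat.card A = 15 ∨ Nat.card A = 11 ∨ Nat.card A = 13 := by
    rcases hn34 with rfl | rfl <;> omega
  rcases hcases with h | h | h | h | h | h | h | h
  · exact .trivial h
  · obtain ⟨F, hF, hFf, i, hi, hc, hm⟩ := exists_fixed hn Nat.prime_three h
    rcases hn34 with rfl | rfl
    · have hi1 : i = 1 := by interval_cases i <;> simp_all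
      subst hi1
      exact .fixed F hF hFf (sq_mem hx hreg hF ⟨1, hc⟩ ⟨s, hs⟩ (by omega) (by rw [hn, hc, h]; norm_num))
        (.inr (.inl ⟨hn.trans (by norm_num), h, hc⟩))
    · have hi02 : i = 0 ∨ i = 2 := by interval_cases i <;> simp_all
      rcases hi02 with rfl | rfl
      · exact .three (hn.trans (by norm_num)) h (isFree_of_card_fix hFf hc)
      · exact .fixed F hF hFf (sq_mem hx hreg hF ⟨2, hc⟩ ⟨s, hs⟩ (by omega) (by rw [hn, hc, h]; norm_num))
          (.inl ⟨hn.trans (by norm_num), h, hc⟩)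
  · obtain ⟨F, hF, hFf, i, hi, hc, hm⟩ := exists_fixed hn Nat.prime_five h
    rcases hn34 with rfl | rfl
    · exfalso
      interval_cases i <;> simp_all
    · have hi0 : i = 0 := by interval_cases i <;> simp_all
      subst hi0
      have hfr := isFree_of_card_fix hFf hc
      refine .five (hn.trans (by norm_num)) h hfr (hsq ?_)
      -- five orbits do not fit in seven elements
      have hd : 5 ∣ Nat.card {u : D | u ∈ twoTor D ∧ u ≠ 1} := h ▸ card_dvd_of_free _
        (fun γ _ u hu => ⟨by rw [mem_twoTor, ← map_pow, mem_twoTor.mp hu.1, map_one],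
          fun h1 => hu.2 (γ.map_eq_one_iff.mp h1)⟩) (fun γ hγ u hu hf => hfr γ hγ u hu.2 hf)
      have he := card_ne_one (twoTor D)
      rw [hT] at hlt he ⊢
      interval_cases t <;> simp_all <;> omega
  · obtain ⟨F, hF, hFf, i, hi, hc, hm⟩ := exists_fixed hn (p := 7) (by norm_num) h
    rcases hn34 with rfl | rfl
    · have hi0 : i = 0 := by interval_cases i <;> simp_all
      subst hi0
      refine .transitive (by rw [h, hn]; norm_num) (isFree_of_card_fix hFf hc) (hbig (by omega)) ?_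
      obtain ⟨γ, hγ, -, -, ho⟩ := exists_order (A := A) 7 (by norm_num) (h ▸ dvd_refl _)
      exact ⟨γ, hγ, ho.trans h.symm⟩
    · have hi1 : i = 1 := by interval_cases i <;> simp_all
      subst hi1
      exact .fixed F hF hFf (sq_mem hx hreg hF ⟨1, hc⟩ ⟨s, hs⟩ (by omega) (by rw [hn, hc, h]; norm_num))
        (.inr (.inr ⟨hn.trans (by norm_num), h, hc⟩))
  · rcases hn34 with rfl | rfl
    · omega
    exact .nine (hn.trans (by norm_num)) h (hbig (by omega))
  · rcases hn34 with rfl | rfl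
    · omega
    obtain ⟨σ, hσ, hσo⟩ := exists_gen_fifteen h
    refine .transitive (by rw [h, hn]; norm_num) (isFree_of_prime fun δ hδ p hp hpd h1 hδp => ?_)
      (hbig (by omega)) ⟨σ, hσ, hσo.trans h.symm⟩
    obtain ⟨i, hi, hc, hm⟩ := card_fixSub hn hp h1 hδp
    rw [h] at hpd
    have hp35 : p = 3 ∨ p = 5 := by
      have := Nat.le_of_dvd (by norm_num) hpd
      have := hp.two_le
      interval_cases p <;> first | omega | (norm_num at hp)
    rcases hp35 with rfl | rfl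
    swap
    · rw [hc]
      interval_cases i <;> simp_all
    have hi02 : i = 0 ∨ i = 2 := by interval_cases i <;> simp_all
    rcases hi02 with rfl | rfl
    · exact hc
    -- an element of order five would act freely on three elements
    exfalso
    obtain ⟨γ, hγ, hγ1, hγp, hγo⟩ := exists_order (A := A) 5 Nat.prime_five (by omega)
    have hz : Subgroup.zpowers σ = A := Subgroup.eq_of_le_of_card_ge (Subgroup.zpowers_le.mpr hσ)
      (by rw [Nat.card_zpowers, hσo, h])
    have hcomm : ∀ g ∈ Subgroup.zpowers γ, δ * g = g * δ := fun g hg => by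
      obtain ⟨a, rfl⟩ : δ ∈ Subgroup.zpowers σ := hz.symm ▸ hδ
      obtain ⟨b, rfl⟩ : g ∈ Subgroup.zpowers σ :=
        hz.symm ▸ (Subgroup.zpowers_le.mpr hγ hg)
      exact (Commute.zpow_zpow_self σ a b).eq
    have hd := card_dvd_of_free (A := Subgroup.zpowers γ) {u : D | u ∈ fixSub δ ∧ u ≠ 1}
      (fun g hg u hu => ⟨by
          rw [mem_fixSub, ← MulAut.mul_apply, hcomm g hg, MulAut.mul_apply, mem_fixSub.mp hu.1],
        fun h1 => hu.2 (g.map_eq_one_iff.mp h1)⟩)
      (fun g hg u hu hf => by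
        by_contra hg1
        obtain ⟨j, hj, hcj, hmj⟩ := card_fixSub hn Nat.prime_five hg1 (by
          obtain ⟨a, rfl⟩ := hg
          show (γ ^ a) ^ 5 = 1
          rw [← zpow_natCast, ← zpow_mul, mul_comm, zpow_mul, zpow_natCast, hγp, one_zpow])
        have hj0 : j = 0 := by interval_cases j <;> simp_all
        subst hj0
        haveI := (Nat.card_eq_one_iff_unique.mp hcj).1
        exact hu.2 (congrArg Subtype.val (Subsingleton.elim (⟨u, hf⟩ : fixSub g) 1)))
    rw [Nat.card_zpowers, hγo] at hd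
    have he := card_ne_one (fixSub δ)
    rw [hc] at he
    omega
  all_goals
    exfalso
    obtain ⟨i, hi, hm⟩ := hprime (Nat.card A) (by rw [h]; norm_num) (dvd_refl _)
    rw [h] at hm
    rcases hn34 with rfl | rfl <;> interval_cases i <;> omega

end Cfsg.Agent.Lib.InvolutionFree.Auto
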