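import Cfsg.Agent.Lib.InvolutionFree.Fixed
import Cfsg.Agent.Lib.OneSection.Abelian
import Cfsg.Agent.Lib.ElemNine.Block
import Cfsg.Agent.S4633

/-!
# Abelian Sylow 2-subgroups of order 8 or 16 with a centralizer of rank one
-/

set_option autoImplicit false
set_option linter.style.haveILetI false
set_option linter.unusedSectionVars false

namespace Cfsg.Agent.Lib.InvolutionFree.Cases

open Cfsg.Agent.Lib.Blocks
open Cfsg.Agent.Lib.BrauerPairs.Center Cfsg.Agent.Lib.BrauerPairs.Pairs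
open Cfsg.Agent.Lib.BrauerPairs.Maximal Cfsg.Agent.Lib.BrauerPairs.Bridge
open Cfsg.Agent.Lib.BrauerPairs.Local Cfsg.Agent.Lib.BrauerPairs.Principal

universe u

attribute [local instance] Ideal.Quotient.field

variable {M : Ideal Cfsg.AlgInt} [M.IsMaximal] [Fact (Nat.Prime 2)] [CharP (Res M) 2]
  {G : Type u} [Group G] [Finite G]

/-- The automizer has odd order. -/
theorem odd_range (hM : Cfsg.IsPModular 2 M) (Q : Sylow 2 G) (hab : ∀ a ∈ Q, ∀ b ∈ Q, a * b = b * a) :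
    Odd (Nat.card (Q : Subgroup G).normalizerMonoidHom.range) := by
  haveI : IsAlgClosed (Res M) := Blocks.isAlgClosed_residueField
  have h := Cfsg.Agent.S4633.range_not_dvd (top_princ (k := Res M) Q)
    (fun a ha => Subgroup.mem_centralizer_iff.mpr fun b hb => hab b hb a ha)
    (Subgroup.normalizer ((Q : Subgroup G) : Set G)) le_rfl
    fun w hw => (mem_stab_iff.mp (ElemNine.Local.mem_stab_princ (M := M) hw)).2
  rw [show ((Q : Subgroup G).normalizerMonoidHom.comp (Subgroup.inclusion le_rfl)).range =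
    (Q : Subgroup G).normalizerMonoidHom.range from rfl] at h
  exact Nat.not_even_iff_odd.mp fun he => h (even_iff_two_dvd.mp he)

/-- **The automizer acts regularly at the involution.** -/
theorem regular_at (hM : Cfsg.IsPModular 2 M) (Q : Sylow 2 G)
    (hab : ∀ a ∈ Q, ∀ b ∈ Q, a * b = b * a) {x : G} (hxQ : x ∈ Q)
    (hl : Cfsg.blockRank 2 (Cfsg.principalBlock M ↥(Subgroup.centralizer ({x} : Set G))) = 1)
    {α : MulAut (Q : Subgroup G)} (hα : α ∈ (Q : Subgroup G).normalizerMonoidHom.range)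
    (hfix : α ⟨x, hxQ⟩ = ⟨x, hxQ⟩) : α = 1 := by
  obtain ⟨s, hs⟩ := odd_range hM Q hab
  obtain ⟨t, rfl⟩ := hα
  set H := Subgroup.centralizer ({x} : Set G)
  have htH : (t : G) ∈ H := Subgroup.mem_centralizer_singleton_iff.mpr
    (mul_inv_eq_iff_eq_mul.mp (congrArg Subtype.val hfix))
  obtain ⟨n, m, hm, hord⟩ :=
    Nat.exists_eq_pow_mul_and_not_dvd (orderOf_pos (t : G)).ne' 2 (by norm_num)
  set t' : H := ⟨(t : G) ^ 2 ^ n, pow_mem htH _⟩ with ht'
  have hreg : ¬ 2 ∣ orderOf t' := by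
    rw [ht', Subgroup.orderOf_mk, orderOf_pow' _ (by positivity), hord,
      Nat.gcd_eq_right (dvd_mul_right _ _), Nat.mul_div_cancel_left _ (by positivity)]
    exact hm
  have hQH : (Q : Subgroup G) ≤ H := fun a ha =>
    Subgroup.mem_centralizer_singleton_iff.mpr (hab a ha x hxQ)
  have htN : ∀ a ∈ Q, (t : G) ^ 2 ^ n * a * ((t : G) ^ 2 ^ n)⁻¹ ∈ (Q : Subgroup G) := fun a ha =>
    (Subgroup.mem_normalizer_iff.mp (pow_mem t.2 _) a).mp ha
  have hcomm : ∀ a ∈ Q, (t : G) ^ 2 ^ n * a = a * (t : G) ^ 2 ^ n := fun a ha =>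
    congrArg Subtype.val (OneSection.commutes_of_rankOne hM hl hreg
      (R := (Q : Subgroup G).subgroupOf H)
      (Q.2.of_equiv (Subgroup.subgroupOfEquivOfLe hQH).symm) (fun r hr => htN _ hr)
      (r := ⟨a, hQH ha⟩) ha)
  set α := (Q : Subgroup G).normalizerMonoidHom t
  have hpow : α ^ 2 ^ n = 1 := by
    show (Q : Subgroup G).normalizerMonoidHom t ^ 2 ^ n = 1
    rw [← map_pow]
    exact MulEquiv.ext fun a => Subtype.ext (mul_inv_eq_iff_eq_mul.mpr (hcomm a a.2))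
  have hcard : α ^ (2 * s + 1) = 1 := by
    rw [← hs]
    exact congrArg Subtype.val
      (pow_card_eq_one' (x := (⟨α, t, rfl⟩ : (Q : Subgroup G).normalizerMonoidHom.range)))
  have h1 := Nat.eq_one_of_dvd_coprimes
    ((Nat.coprime_two_right.mpr ⟨s, rfl⟩).pow_right n : Nat.Coprime (2 * s + 1) (2 ^ n))
    (orderOf_dvd_of_pow_eq_one hcard) (orderOf_dvd_of_pow_eq_one hpow)
  exact orderOf_eq_one_iff.mp h1

/-- **The counts.** -/
theorem counts (hM : Cfsg.IsPModular 2 M) (Q : Sylow 2 G)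
    (hab : ∀ a ∈ Q, ∀ b ∈ Q, a * b = b * a) {x : G} (hxQ : x ∈ Q) (hx : orderOf x = 2)
    (hl : Cfsg.blockRank 2 (Cfsg.principalBlock M ↥(Subgroup.centralizer ({x} : Set G))) = 1) :
    (Nat.card Q = 8 → Nat.card (Cfsg.principalBlock M G) = 8) ∧
      (Nat.card Q = 16 → Nat.card (Cfsg.principalBlock M G) = 8 ∨
        Nat.card (Cfsg.principalBlock M G) = 16) := by
  classical
  by_cases hq : Nat.card Q = 8 ∨ Nat.card Q = 16
  swap
  · exact ⟨fun h => absurd (Or.inl h) hq, fun h => absurd (Or.inr h) hq⟩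
  suffices h : Nat.card Q = 8 ∧ Nat.card (Cfsg.principalBlock M G) = 8 ∨
      Nat.card Q = 16 ∧ (Nat.card (Cfsg.principalBlock M G) = 8 ∨
        Nat.card (Cfsg.principalBlock M G) = 16) by
    rcases h with ⟨h1, h2⟩ | ⟨h1, h2⟩
    · exact ⟨fun _ => h2, fun h => absurd h (by omega)⟩
    · exact ⟨fun h => absurd h (by omega), fun _ => h2⟩
  haveI := Fintype.ofFinite G
  letI : CommGroup (Q : Subgroup G) :=
    { (inferInstance : Group (Q : Subgroup G)) with
      mul_comm := fun a b => Subtype.ext (hab a a.2 b b.2) }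
  set A := (Q : Subgroup G).normalizerMonoidHom.range with hA
  have hx2 : (⟨x, hxQ⟩ : (Q : Subgroup G)) ^ 2 = 1 :=
    Subtype.ext (hx ▸ pow_orderOf_eq_one x : x ^ 2 = 1)
  have hx1 : (⟨x, hxQ⟩ : (Q : Subgroup G)) ≠ 1 := fun e => by
    rw [show x = 1 from congrArg Subtype.val e, orderOf_one] at hx
    omega
  have hne : (Q : Subgroup G) ≠ ⊥ := fun e => hx1 (Subtype.ext (Subgroup.mem_bot.mp (e ▸ hxQ :
    x ∈ (⊥ : Subgroup G))))
  have hsh := Auto.shape (A := A) hx2 hx1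
    (fun α hα h => regular_at hM Q hab hxQ hl hα h) hq (odd_range hM Q hab)
  rcases hsh with h1 | ⟨hD, hA3, hfree⟩ | ⟨hD, hA9, hsq⟩ | ⟨hD, hA5, hfree, hsq⟩ |
    ⟨htr, hfree, hsq, σ, hσ, hσo⟩ | ⟨F, hF, hFfree, hsqF, hnum⟩
  · obtain ⟨m, e1, -, -, e4⟩ := Fixed.counts_princ hM Q hab hne fun α hα u hu h => by
      haveI := (Nat.card_eq_one_iff_unique.mp h1).1
      exact congrArg Subtype.val (Subsingleton.elim (⟨α, hα⟩ : A) 1)
    rw [← hA, h1] at e1 e4
    have hk := e4 (by norm_num)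
    rcases hq with h | h
    · exact Or.inl ⟨h, by omega⟩
    · exact Or.inr ⟨h, Or.inr (by omega)⟩
  · obtain ⟨m, e1, -, -, e4⟩ := Fixed.counts_princ hM Q hab hne hfree
    rw [← hA, hA3] at e1 e4
    have hk := e4 le_rfl
    exact Or.inr ⟨hD, Or.inl (by omega)⟩
  · exact Or.inr ⟨hD, Or.inr (ElemNine.Block.invariants hM Q hD
      (fun a ha => congrArg Subtype.val (hsq ⟨a, ha⟩)) ((Fixed.card_range _).symm.trans hA9)).1⟩
  · have hFree := Few.free_of_isFree Q (fun a ha => congrArg Subtype.val (hsq ⟨a, ha⟩)) hfree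
    obtain ⟨m, e1, -, e3, -⟩ := Fixed.counts_princ hM Q hab hne hfree
    have hge := Few.le_card_five hFree hM hD hA5
    rw [← hA, hA5] at e1 e3
    exact Or.inr ⟨hD, Or.inl (by omega)⟩
  · have hFree := Few.free_of_isFree Q (fun a ha => congrArg Subtype.val (hsq ⟨a, ha⟩)) hfree
    have hk := Few.card_transitive hFree hM hσ hσo htr
    rcases hq with h | h
    · exact Or.inl ⟨h, hk.trans h⟩
    · exact Or.inr ⟨h, Or.inr (hk.trans h)⟩
  · have hfix : Fixed.Fix (Nat.card Q) (Nat.card F) (Nat.card A) Q (F.map (Q : Subgroup G).subtype) := by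
      refine ⟨hab, rfl, Subgroup.map_subtype_le F,
        Subgroup.card_map_of_injective (Q : Subgroup G).subtype_injective,
        fun a ha => ⟨⟨a, ha⟩ ^ 2, hsqF ⟨a, ha⟩, rfl⟩, ?_, (Fixed.card_range _).symm⟩
      rintro t ht _ ⟨v, hv, rfl⟩
      exact congrArg Subtype.val (hF _ ⟨⟨t, ht⟩, rfl⟩ v hv)
    have hfr : ∀ α ∈ A, ∀ u : (Q : Subgroup G), (u : G) ∉ F.map (Q : Subgroup G).subtype →
        α u = u → α = 1 := fun α hα u hu h => hFfree α hα u (fun hm => hu ⟨u, hm, rfl⟩) h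
    have hk := Fixed.card_fixed hM hfix (by
      rcases hnum with ⟨a, b, c⟩ | ⟨a, b, c⟩ | ⟨a, b, c⟩ <;> omega) hfr
    rcases hnum with ⟨a, b, c⟩ | ⟨a, b, c⟩ | ⟨a, b, c⟩ <;> rw [a, b, c] at hk <;> push_cast at hk
    · exact Or.inr ⟨a, Or.inr (by omega)⟩
    · exact Or.inl ⟨a, by omega⟩
    · exact Or.inr ⟨a, Or.inr (by omega)⟩

end Cfsg.Agent.Lib.InvolutionFree.Cases
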