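import Mathlib

/-!
# The integers attached to a free action on an elementary abelian Sylow 2-subgroup

For each character of the block: `a` (indicator minus multiplicity of the trivial character) and
the values `y` at representatives of the orbits.
-/

set_option autoImplicit false

namespace Cfsg.Agent.Lib.InvolutionFree.Combi

variable {ι : Type*} [Fintype ι]

/-- One orbit. -/
theorem transitive {q : ℕ} {a x : ι → ℤ} (ha : ∀ i, -1 ≤ a i ∧ a i ≤ 1) (hx0 : ∀ i, x i ≠ 0)
    (hm : ∀ i, 0 ≤ a i + x i) (htot : (q : ℤ) - 1 ≤ ∑ i, (a i + x i))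
    (hax : ∑ i, a i * x i = -1) (hxx : ∑ i, x i * x i = q) : Fintype.card ι = q := by
  have hg : ∀ i, 0 ≤ (x i - 1) * (x i + a i) ∧ ((x i - 1) * (x i + a i) = 0 → x i * x i = 1) := by
    intro i
    obtain ⟨h1, h2⟩ := ha i
    have h0 := hx0 i
    have h3 := hm i
    by_cases hge : 1 ≤ x i
    · refine ⟨mul_nonneg (by omega) (by omega), fun h => ?_⟩
      rcases mul_eq_zero.mp h with h | h
      · rw [show x i = 1 by omega]; norm_num
      · rw [show x i = 1 by omega]; norm_num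
    · have hx : x i = -1 := by omega
      have : a i = 1 := by omega
      simp [hx, this]
  have hle : ∑ i, (x i - 1) * (x i + a i) ≤ 0 := by
    have e : ∑ i, (x i - 1) * (x i + a i) =
        ∑ i, x i * x i + ∑ i, a i * x i - ∑ i, (a i + x i) := by
      rw [← Finset.sum_add_distrib, ← Finset.sum_sub_distrib]
      exact Finset.sum_congr rfl fun i _ => by ring
    rw [e, hax, hxx]
    omega
  have h0 := (Finset.sum_eq_zero_iff_of_nonneg fun i _ => (hg i).1).mp
    (le_antisymm hle (Finset.sum_nonneg fun i _ => (hg i).1))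
  rw [Finset.sum_congr rfl fun i _ => (hg i).2 (h0 i (Finset.mem_univ i)), Finset.sum_const,
    Finset.card_univ, nsmul_one] at hxx
  exact_mod_cast hxx

/-- A row of three: constant, or one value lower by four. -/
theorem row_cases {a p q r : ℤ} (ha : -1 ≤ a ∧ a ≤ 1) (hpos : 0 ≤ a + (p + q + r))
    (dp : 4 ∣ p + q + r + p) (dq : 4 ∣ p + q + r + q) (dr : 4 ∣ p + q + r + r)
    (bp : 3 * (p + q + r + p) ≤ 4 * (a + (p + q + r)))
    (bq : 3 * (p + q + r + q) ≤ 4 * (a + (p + q + r)))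
    (br : 3 * (p + q + r + r) ≤ 4 * (a + (p + q + r))) :
    (p = q ∧ q = r ∧ 0 ≤ a ∧ 0 ≤ p) ∨ (a = 1 ∧
      ((p + 4 = q ∧ q = r) ∨ (q + 4 = p ∧ p = r) ∨ (r + 4 = p ∧ p = q))) := by
  omega

/-- Three orbits of five elements. -/
theorem three {a : ι → ℤ} {y : ι → Fin 3 → ℤ} (o : ι) (ha : ∀ i, -1 ≤ a i ∧ a i ≤ 1)
    (hpos : ∀ i, 0 ≤ a i + ∑ j, y i j) (hdvd : ∀ i j, 4 ∣ ∑ l, y i l + y i j)
    (hbound : ∀ i j, 3 * (∑ l, y i l + y i j) ≤ 4 * (a i + ∑ l, y i l))
    (hyy : ∑ i, ∑ j, y i j * y i j = 48) (hSS : ∑ i, (∑ j, y i j) * ∑ j, y i j = 48)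
    (haS : ∑ i, a i * ∑ j, y i j = -3) (ho : a o = 0) (ho1 : ∀ j, y o j = 1)
    (htwin : ∀ i, i ≠ o → a i = 0 → ∃ i', i' ≠ i ∧ i' ≠ o ∧ a i' = 0 ∧ y i' = y i) :
    8 ≤ Fintype.card ι := by
  classical
  let S : ι → ℤ := fun i => y i 0 + y i 1 + y i 2
  have hS : ∀ i, ∑ j, y i j = S i := fun i => Fin.sum_univ_three _
  simp only [hS] at hpos hdvd hbound hSS haS
  simp only [Fin.sum_univ_three] at hyy
  have hrow : ∀ i, (y i 0 = y i 1 ∧ y i 1 = y i 2 ∧ 0 ≤ a i ∧ 0 ≤ y i 0) ∨
      (¬ (y i 0 = y i 1 ∧ y i 1 = y i 2) ∧ a i = 1 ∧ -1 ≤ S i ∧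
        3 * (y i 0 * y i 0 + y i 1 * y i 1 + y i 2 * y i 2) - S i * S i = 32) := by
    intro i
    have h := row_cases (ha i) (hpos i) (hdvd i 0) (hdvd i 1) (hdvd i 2) (hbound i 0) (hbound i 1)
      (hbound i 2)
    have hp := hpos i
    rcases h with h | ⟨h1, h | h | h⟩
    · exact Or.inl h
    all_goals
      obtain ⟨e1, e2⟩ := h
      refine Or.inr ⟨by omega, h1, by simp only [S] at hp ⊢; omega, ?_⟩
      simp only [S]
    · rw [← e2, ← e1]; ring
    · rw [← e2, ← e1]; ring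
    · rw [← e2, ← e1]; ring
  set N := Finset.univ.filter fun i : ι => ¬ (y i 0 = y i 1 ∧ y i 1 = y i 2) with hN
  set C := Finset.univ.filter fun i : ι => y i 0 = y i 1 ∧ y i 1 = y i 2 with hC
  have hNp : ∀ i ∈ N, a i = 1 ∧ -1 ≤ S i ∧
      3 * (y i 0 * y i 0 + y i 1 * y i 1 + y i 2 * y i 2) - S i * S i = 32 := by
    intro i hi
    rcases hrow i with h | h
    · exact absurd ⟨h.1, h.2.1⟩ (Finset.mem_filter.mp hi).2
    · exact h.2
  have hCp : ∀ i ∈ C, 0 ≤ a i ∧ 0 ≤ y i 0 ∧ S i = 3 * y i 0 := by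
    intro i hi
    obtain ⟨e1, e2⟩ := (Finset.mem_filter.mp hi).2
    rcases hrow i with h | h
    · exact ⟨h.2.2.1, h.2.2.2, by simp only [S]; omega⟩
    · exact absurd ⟨e1, e2⟩ h.1
  have hsplit : ∀ f : ι → ℤ, ∑ i ∈ C, f i + ∑ i ∈ N, f i = ∑ i, f i := fun f =>
    Finset.sum_filter_add_sum_filter_not _ _ f
  -- three rows are not constant
  have hNcard : N.card = 3 := by
    have h := hsplit fun i => 3 * (y i 0 * y i 0 + y i 1 * y i 1 + y i 2 * y i 2) - S i * S i
    rw [Finset.sum_sub_distrib (s := Finset.univ), ← Finset.mul_sum (s := Finset.univ), hyy, hSS,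
      Finset.sum_eq_zero (s := C) fun i hi => by
        obtain ⟨e1, e2⟩ := (Finset.mem_filter.mp hi).2
        rw [(hCp i hi).2.2, ← e2, ← e1]; ring,
      Finset.sum_congr rfl fun i hi => (hNp i hi).2.2, Finset.sum_const, nsmul_eq_mul] at h
    omega
  -- their sums are `-1`, and the constant rows have no `a`
  have hNS : ∀ i ∈ N, S i = -1 := by
    have h := hsplit fun i => a i * S i
    rw [haS, Finset.sum_congr rfl (s₂ := N) fun i hi => by rw [(hNp i hi).1, one_mul]] at h
    have hC0 : 0 ≤ ∑ i ∈ C, a i * S i := Finset.sum_nonneg fun i hi => by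
      obtain ⟨h1, h2, h3⟩ := hCp i hi
      exact mul_nonneg h1 (by omega)
    have hN0 : ∑ i ∈ N, (S i + 1) ≤ 0 := by
      rw [Finset.sum_add_distrib, Finset.sum_const, hNcard]
      simp
      change (∑ i ∈ C, a i * S i) + ∑ i ∈ N, S i = -3 at h
      change ∑ i ∈ N, S i + 3 ≤ 0
      linarith
    have h0 := (Finset.sum_eq_zero_iff_of_nonneg (f := fun i => S i + 1) fun i hi => by
      have := (hNp i hi).2.1; omega).mp
      (le_antisymm hN0 (Finset.sum_nonneg fun i hi => by have := (hNp i hi).2.1; omega))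
    exact fun i hi => by have := h0 i hi; omega
  have hCa : ∀ i ∈ C, a i * y i 0 = 0 := by
    have h := hsplit fun i => a i * S i
    rw [haS, Finset.sum_congr rfl (s₂ := N) fun i hi => by
      rw [(hNp i hi).1, hNS i hi], Finset.sum_const, hNcard,
      Finset.sum_congr rfl (s₂ := C) fun i hi => by
        rw [(hCp i hi).2.2, show a i * (3 * y i 0) = 3 * (a i * y i 0) by ring],
      ← Finset.mul_sum] at h
    refine (Finset.sum_eq_zero_iff_of_nonneg fun i hi => mul_nonneg (hCp i hi).1 (hCp i hi).2.1).mp ?_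
    simp at h
    omega
  have hsq : ∑ i ∈ C, y i 0 * y i 0 = 5 := by
    have h := hsplit fun i => S i * S i
    rw [hSS, Finset.sum_congr rfl (s₂ := N) fun i hi => by rw [hNS i hi], Finset.sum_const, hNcard,
      Finset.sum_congr rfl (s₂ := C) fun i hi => by
        rw [(hCp i hi).2.2, show 3 * y i 0 * (3 * y i 0) = 9 * (y i 0 * y i 0) by ring],
      ← Finset.mul_sum] at h
    simp at h
    omega
  have hoC : o ∈ C := Finset.mem_filter.mpr ⟨Finset.mem_univ _, by rw [ho1, ho1], by rw [ho1, ho1]⟩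
  -- no constant above one
  have hle1 : ∀ i ∈ C, y i 0 * y i 0 ≤ y i 0 := by
    intro i hi
    by_contra hlt
    have h2 : 2 ≤ y i 0 := by
      have := (hCp i hi).2.1
      by_contra hh
      rcases (show y i 0 = 0 ∨ y i 0 = 1 by omega) with e | e <;> rw [e] at hlt <;> omega
    have hio : i ≠ o := fun e => by rw [e, ho1] at h2; omega
    have hai : a i = 0 := (mul_eq_zero.mp (hCa i hi)).resolve_right (by omega)
    obtain ⟨i', h1, h1o, -, hy⟩ := htwin i hio hai
    have hi' : i' ∈ C := Finset.mem_filter.mpr ⟨Finset.mem_univ _, by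
      rw [hy]; exact (Finset.mem_filter.mp hi).2⟩
    have hsub : ({o, i, i'} : Finset ι) ⊆ C := by
      simp [Finset.insert_subset_iff, hoC, hi, hi']
    have hs := Finset.sum_le_sum_of_subset_of_nonneg (f := fun l => y l 0 * y l 0) hsub
      fun l _ _ => mul_self_nonneg _
    rw [hsq, Finset.sum_insert (by simp [Ne.symm hio, Ne.symm h1o]), Finset.sum_pair h1.symm, hy,
      ho1] at hs
    nlinarith
  have hcardC : (5 : ℤ) ≤ C.card := by
    rw [← hsq, Finset.cast_card]
    refine Finset.sum_le_sum fun i hi => ?_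
    have h1 := hle1 i hi
    have h2 := (hCp i hi).2.1
    nlinarith
  have : C.card + N.card = Fintype.card ι :=
    (Finset.card_filter_add_card_filter_not (s := Finset.univ)
      (fun i : ι => y i 0 = y i 1 ∧ y i 1 = y i 2)).trans (Finset.card_univ)
  omega

end Cfsg.Agent.Lib.InvolutionFree.Combi
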