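import Cfsg.Agent.Lib.InvolutionFree.Section
import Cfsg.Agent.Lib.Characters.Indicator
import Cfsg.Agent.Lib.Induced.Character

/-!
# Frobenius-Schur indicators against the values on the sections

`e q (ν - δ) = ∑ (n_v - χ v)` over the nontrivial elements `v` of `P`, where `n_v` is the mean of
`χ` on the regular elements centralizing `v`; and `n_v + ∑ λ(v') χ v'` is a multiple of `q`.
-/

set_option autoImplicit false
set_option linter.style.haveILetI false
set_option linter.unusedSectionVars false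

namespace Cfsg.Agent.Lib.InvolutionFree.Count

open scoped ComplexConjugate
open Cfsg.Agent.Lib.Blocks Cfsg.Agent.Lib.Blocks.Contrib
open Cfsg.Agent.Lib.BrauerMap.SecondMain (mem_centralizer_zpowers_iff)
open Cfsg.Agent.Lib.BrauerPairs.Bridge
open Cfsg.Agent.Lib.Characters.Basic Cfsg.Agent.Lib.Induced.Basic
open Cfsg.Agent.Lib.InvolutionFree.Section

universe u

attribute [local instance] Ideal.Quotient.field

variable {M : Ideal Cfsg.AlgInt} [M.IsMaximal] {G : Type u} [Group G] [Fintype G]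

local notation "Cz" x:max => Subgroup.centralizer ((Subgroup.zpowers (x : G) : Subgroup G) : Set G)

open scoped Classical in
/-- The regular elements centralizing `u`. -/
noncomputable def regR (u : G) : Finset G :=
  Finset.univ.filter fun s => ¬ 2 ∣ orderOf s ∧ Commute u s

theorem mem_regR {u s : G} : s ∈ regR u ↔ ¬ 2 ∣ orderOf s ∧ Commute u s := by
  classical simp [regR]

/-- The mean of `χ` on them. -/
noncomputable def reg (χ : Cfsg.IrrCharacter G) (u : G) : ℂ :=
  ((regR u).card : ℂ)⁻¹ * ∑ s ∈ regR u, (χ : G → ℂ) s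

open scoped Classical in
/-- Indicator minus multiplicity of the trivial character. -/
noncomputable def ind (χ : Cfsg.IrrCharacter G) : ℤ :=
  ⌊((Nat.card G : ℂ)⁻¹ * ∑ s : G, (χ : G → ℂ) (s * s)).re⌋ - if χ = oneChar G then 1 else 0

open scoped Classical in
theorem coe_ind (χ : Cfsg.IrrCharacter G) : (ind χ : ℂ) =
    (Nat.card G : ℂ)⁻¹ * ∑ s : G, (χ : G → ℂ) (s * s) -
      (if χ = oneChar G then 1 else 0 : ℂ) := by
  rw [ind]
  obtain ⟨h1, h2⟩ := Characters.Indicator.indicator_spec χ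
  by_cases hr : ∀ g, ((χ : G → ℂ) g).im = 0
  · rcases h1 hr with h | h <;> rw [h] <;> split_ifs <;> simp [Int.floor_neg] <;> norm_num
  · rw [h2 hr]; split_ifs <;> simp

theorem ind_oneChar : ind (oneChar G) = 0 := by
  classical
  have h : (ind (oneChar G) : ℂ) = 0 := by
    rw [coe_ind, if_pos rfl]
    simp [oneChar_apply, ← Nat.card_eq_fintype_card]
  exact_mod_cast h

theorem ind_bound (χ : Cfsg.IrrCharacter G) : -1 ≤ ind χ ∧ ind χ ≤ 1 := by
  classical
  by_cases hone : χ = oneChar G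
  · rw [hone, ind_oneChar]; omega
  obtain ⟨h1, h2⟩ := Characters.Indicator.indicator_spec χ
  rw [ind, if_neg hone]
  by_cases hr : ∀ g, ((χ : G → ℂ) g).im = 0
  · rcases h1 hr with h | h <;> rw [h] <;> simp [Int.floor_neg]
  · rw [h2 hr]; simp

/-- No indicator: not real, and so is the conjugate. -/
theorem ind_twin {χ : Cfsg.IrrCharacter G} (hone : χ ≠ oneChar G) (h0 : ind χ = 0) :
    PrincipalFew.conjIrr χ ≠ χ ∧ PrincipalFew.conjIrr χ ≠ oneChar G ∧
      ind (PrincipalFew.conjIrr χ) = 0 := by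
  classical
  have hv := coe_ind χ
  rw [h0, if_neg hone, sub_zero, Int.cast_zero] at hv
  have hnon : ¬ ∀ g, ((χ : G → ℂ) g).im = 0 := fun hr => by
    rcases (Characters.Indicator.indicator_spec χ).1 hr with h | h <;> rw [← hv] at h <;>
      norm_num at h
  have h1 : PrincipalFew.conjIrr χ ≠ oneChar G := fun e => hone (Subtype.ext (funext fun g => by
    have := congrArg (fun ζ : Cfsg.IrrCharacter G => (ζ : G → ℂ) g) e
    simp only [PrincipalFew.conjIrr_apply, oneChar_apply] at this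
    rw [← Complex.conj_conj ((χ : G → ℂ) g), this, map_one]
    rfl))
  refine ⟨fun e => hnon fun g => ?_, h1, ?_⟩
  · rw [← Complex.conj_eq_iff_im, ← PrincipalFew.conjIrr_apply, e]
  · have h := coe_ind (PrincipalFew.conjIrr χ)
    rw [if_neg h1, sub_zero] at h
    simp only [PrincipalFew.conjIrr_apply] at h
    rw [← map_sum, show (Nat.card G : ℂ)⁻¹ = conj ((Nat.card G : ℂ)⁻¹) by simp, ← map_mul, ← hv,
      map_zero] at h
    exact_mod_cast h

/-- Decomposition into 2-part and regular part. -/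
theorem sum_decomp {S : Finset G} (hS : ∀ t, t ∈ S ↔ ∃ k : ℕ, orderOf t = 2 ^ k) (f : G → ℂ) :
    ∑ g, f g = ∑ t ∈ S, ∑ s ∈ regR t, f (t * s) := by
  classical
  rw [Finset.sum_sigma' S (fun t => regR t) (fun t s => f (t * s))]
  refine (Finset.sum_bij (fun z _ => z.1 * z.2) (fun z _ => Finset.mem_univ _) ?_ ?_
    fun z _ => rfl).symm
  · intro z hz z' hz' h
    obtain ⟨h1, h2⟩ := Finset.mem_sigma.mp hz
    obtain ⟨h1', h2'⟩ := Finset.mem_sigma.mp hz'
    obtain ⟨hs, hc⟩ := mem_regR.mp h2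
    obtain ⟨hs', hc'⟩ := mem_regR.mp h2'
    have e : z.1 = z'.1 := BrauerMap.PrincipalSection.isPPart_unique Nat.prime_two
      ⟨z.2, rfl, hc, (hS _).mp h1, hs⟩ ⟨z'.2, h.symm, hc', (hS _).mp h1', hs'⟩
    refine Sigma.ext e (heq_of_eq ?_)
    rw [e] at h
    exact mul_left_cancel h
  · intro g _
    obtain ⟨t, s, hts, hc, ht, hs⟩ := exists_isPPart (p := 2) Nat.prime_two g
    exact ⟨⟨t, s⟩, Finset.mem_sigma.mpr ⟨(hS t).mpr ht, mem_regR.mpr ⟨hs, hc⟩⟩, hts⟩

/-- Squaring permutes the regular elements centralizing `t`. -/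
theorem sum_regR_sq (t : G) (f : G → ℂ) : ∑ s ∈ regR t, f (s * s) = ∑ s ∈ regR t, f s := by
  classical
  have hmaps : ∀ s ∈ regR t, s * s ∈ regR t := fun s hs => by
    obtain ⟨h, hc⟩ := mem_regR.mp hs
    refine mem_regR.mpr ⟨fun hd => h ?_, hc.mul_right hc⟩
    rw [← pow_two] at hd
    exact hd.trans (orderOf_pow_dvd 2)
  have hinj : Set.InjOn (fun s : G => s * s) (regR t) := by
    intro a ha b hb h
    have ho : ∀ c ∈ regR t, c ∈ Subgroup.zpowers (c * c) := fun c hc => by
      rw [← pow_two]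
      obtain ⟨m, hm⟩ := exists_pow_eq_self_of_coprime (x := c) (n := 2)
        ((Nat.Prime.coprime_iff_not_dvd Nat.prime_two).mpr (mem_regR.mp hc).1)
      exact ⟨m, (zpow_natCast _ m).trans hm⟩
    simp only at h
    obtain ⟨i, hi⟩ := ho a ha
    obtain ⟨j, hj⟩ := ho b hb
    have hab : Commute a b := by
      rw [← hi, ← hj, h]
      exact Commute.zpow_zpow_self _ i j
    have h2 : (a * b⁻¹) ^ 2 = 1 := by
      rw [hab.inv_right.mul_pow, inv_pow, pow_two, pow_two, h, mul_inv_cancel]
    have hodd : ¬ 2 ∣ orderOf (a * b⁻¹) := fun hd =>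
      (Nat.prime_two.dvd_mul.mp (hd.trans (hab.inv_right.orderOf_mul_dvd_mul_orderOf))).elim
        (mem_regR.mp (Finset.mem_coe.mp ha)).1 (by rw [orderOf_inv]; exact (mem_regR.mp (Finset.mem_coe.mp hb)).1)
    rcases (Nat.dvd_prime Nat.prime_two).mp (orderOf_dvd_of_pow_eq_one h2) with h3 | h3
    · exact mul_inv_eq_one.mp (orderOf_eq_one_iff.mp h3)
    · exact absurd (dvd_of_eq h3.symm) hodd
  have himg : (regR t).image (fun s : G => s * s) = regR t :=
    Finset.eq_of_subset_of_card_le (Finset.image_subset_iff.mpr hmaps)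
      (Finset.card_image_of_injOn hinj).ge
  conv_rhs => rw [← himg, Finset.sum_image hinj]

theorem regR_conj (g t : G) :
    regR (g * t * g⁻¹) = (regR t).map (MulAut.conj g).toEquiv.toEmbedding := by
  ext s
  simp only [Finset.mem_map_equiv, mem_regR]
  have e1 : (MulAut.conj g).toEquiv.symm s = (MulAut.conj g⁻¹) s := by simp
  rw [e1, MulEquiv.orderOf_eq]
  refine and_congr_right fun _ => ⟨fun h => ?_, fun h => ?_⟩
  · have h' := h.map (MulAut.conj g⁻¹).toMonoidHom
    simpa [mul_assoc] using h'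
  · have h' := h.map (MulAut.conj g).toMonoidHom
    simpa [mul_assoc] using h'

variable {P : Sylow 2 G} (hF : Free P) [Fact (Nat.Prime 2)]
include hF

/-- The kernel of the retraction. -/
theorem card_regR {u : G} (hu : u ∈ P) (hu1 : u ≠ 1) :
    ∃ r : Cz u →* (P : Subgroup G), (∀ c : Cz u, (c : G) ∈ P → (r c : G) = c) ∧
      (∀ c, ∃ s : G, ¬ 2 ∣ orderOf s ∧ Commute (r c : G) s ∧
        IsConj (c : G) ((r c : G) * s)) ∧
      (∀ [Fintype (Cz u)] [DecidablePred fun c : Cz u => r c = 1] (f : G → ℂ),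
        ∑ c : Cz u with r c = 1, f c = ∑ s ∈ regR u, f s) ∧
      (regR u).card * Nat.card P = Nat.card (Cz u) := by
  classical
  obtain ⟨r, hfix, hreg, hidx, hconj⟩ := hF.exists_retract hu hu1
  have hker : ∀ [Fintype (Cz u)] [DecidablePred fun c : Cz u => r c = 1],
      (Finset.univ.filter fun c : Cz u => r c = 1).map ⟨Subtype.val, Subtype.val_injective⟩ =
        regR u := by
    intro _ _
    ext s
    simp only [Finset.mem_map, Finset.mem_filter, Finset.mem_univ, true_and,
      Function.Embedding.coeFn_mk, mem_regR]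
    constructor
    · rintro ⟨c, hc, rfl⟩
      exact ⟨by rw [Subgroup.orderOf_coe]; exact (hreg c).mp hc,
        (mem_centralizer_zpowers_iff.mp c.2).symm⟩
    · rintro ⟨h, hc⟩
      exact ⟨⟨s, mem_centralizer_zpowers_iff.mpr hc.symm⟩,
        (hreg _).mpr (by rwa [← Subgroup.orderOf_coe]), rfl⟩
  refine ⟨r, hfix, hconj, fun f => by rw [← hker, Finset.sum_map]; rfl, ?_⟩
  haveI := Fintype.ofFinite (Cz u)
  rw [← hker, Finset.card_map, ← hidx, ← Fintype.card_subtype, ← Nat.card_eq_fintype_card]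
  exact r.ker.card_mul_index

theorem regR_nonempty {u : G} : (regR u).card ≠ 0 :=
  Finset.card_ne_zero.mpr ⟨1, mem_regR.mpr ⟨by simp, Commute.one_right u⟩⟩

variable [CharP (Res M) 2] (hM : Cfsg.IsPModular 2 M)
include hM

/-- **The multiplicity of a linear character of the centralizer.** -/
theorem exists_mult {u : G} (hu : u ∈ P) (hu1 : u ≠ 1) {χ : Cfsg.IrrCharacter G}
    (hχ : χ ∈ Cfsg.principalBlock M G) [Fintype (P : Subgroup G)]
    [DecidableEq (P : Subgroup G)] (lam : (P : Subgroup G) →* ℂˣ) :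
    ∃ m : ℕ, (m : ℂ) * Nat.card P =
        reg χ u + ∑ v ∈ Finset.univ.erase 1, (lam v : ℂ) * (χ : G → ℂ) (v : G) ∧
      (lam = 1 → ∀ [Fintype (Cz u)],
        (m : ℂ) * Nat.card (Cz u) = ∑ c : Cz u, (χ : G → ℂ) c) := by
  classical
  obtain ⟨r, hfix, hconj, hker, hcard⟩ := card_regR hF hu hu1
  haveI := Fintype.ofFinite (Cz u)
  obtain ⟨m, hm⟩ := exists_classInner_nat (isCharacter_comp (Cz u).subtype (isCharacter_irr χ))
    (Cfsg.Agent.Lib.Induced.Character.isCharacter_hom (lam.comp r))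
  refine ⟨m, ?_, fun h1 inst => ?_⟩
  swap
  · rw [← hm, h1]
    simp only [Cfsg.classInner, Function.comp_apply, MonoidHom.one_comp, MonoidHom.one_apply,
      Units.val_one, map_one, mul_one]
    rw [mul_comm, mul_inv_cancel_left₀ (Nat.cast_ne_zero.mpr Nat.card_pos.ne')]
    exact Finset.sum_congr (Finset.ext fun c => by simp) fun c _ => rfl
  have hreal : ∀ v, conj (lam v : ℂ) = (lam v : ℂ) := fun v => by
    have h2 : (lam v : ℂ) ^ 2 = 1 := by
      rw [← Units.val_pow_eq_pow_val, ← map_pow,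
        show v ^ 2 = 1 from Subtype.ext (hF.sq v v.2), map_one, Units.val_one]
    rcases sq_eq_one_iff.mp h2 with h | h <;> simp [h]
  have hK : ((regR u).card : ℂ) ≠ 0 := Nat.cast_ne_zero.mpr (regR_nonempty hF)
  have hfib : ∀ v ∈ (Finset.univ : Finset (P : Subgroup G)).erase 1,
      ∑ c : Cz u with r c = v, (χ : G → ℂ) c * conj ((lam (r c) : ℂ)) =
        (regR u).card * ((lam v : ℂ) * (χ : G → ℂ) (v : G)) := by
    intro v hv
    have hv1 := Finset.ne_of_mem_erase hv
    rw [Finset.sum_congr rfl fun c hc => by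
      rw [hF.apply_fibre (u := u) hM hconj
        (by rw [(Finset.mem_filter.mp hc).2]; exact hv1) hχ, (Finset.mem_filter.mp hc).2, hreal],
      Finset.sum_const, nsmul_eq_mul, mul_comm ((χ : G → ℂ) (v : G))]
    congr 1
    have h1 := hker fun _ => (1 : ℂ)
    simp only [Finset.sum_const, nsmul_eq_mul, mul_one] at h1
    rw [← h1]
    refine Nat.cast_inj.mpr (Finset.card_equiv (Equiv.mulLeft (⟨v, hF.le_centralizer hu v.2⟩ : Cz u)⁻¹)
      fun c => ?_)
    have hrv : r ⟨v, hF.le_centralizer hu v.2⟩ = v := Subtype.ext (hfix _ v.2)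
    simp only [Finset.mem_filter, Finset.mem_univ, true_and, Equiv.coe_mulLeft, map_mul, map_inv, hrv]
    exact ⟨fun h => by rw [h, inv_mul_cancel], fun h => (inv_mul_eq_one.mp h).symm⟩
  have hsum : (Nat.card (Cz u) : ℂ) * m = ∑ c : Cz u, (χ : G → ℂ) c * conj ((lam (r c) : ℂ)) := by
    rw [← hm, Cfsg.classInner, mul_inv_cancel_left₀ (Nat.cast_ne_zero.mpr Nat.card_pos.ne')]
    rfl
  rw [← Finset.sum_fiberwise_of_maps_to (g := fun c => r c) (t := Finset.univ)
      (fun c _ => Finset.mem_univ _), ← Finset.add_sum_erase _ _ (Finset.mem_univ 1),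
    Finset.sum_congr rfl hfib, ← Finset.mul_sum,
    Finset.sum_congr rfl (s₁ := Finset.univ.filter fun c => r c = 1) (fun c hc => by
      rw [(Finset.mem_filter.mp hc).2, map_one, Units.val_one, map_one, mul_one]),
    hker (fun g => (χ : G → ℂ) g), ← hcard, Nat.cast_mul] at hsum
  rw [reg]
  field_simp
  linear_combination hsum

omit hM in
/-- The number of conjugates in `P`. -/
theorem card_conj {u : G} (hu : u ∈ P) (hu1 : u ≠ 1) :
    Nat.card {v : (P : Subgroup G) // v ≠ 1 ∧ IsConj u (v : G)} =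
      Nat.card (P : Subgroup G).normalizerMonoidHom.range := by
  set A := (P : Subgroup G).normalizerMonoidHom.range
  set u' : (P : Subgroup G) := ⟨u, hu⟩
  have hu1' : u' ≠ 1 := fun e => hu1 (congrArg Subtype.val e)
  refine (Nat.card_eq_of_bijective
    (fun α : A => (⟨α.1 u', fun e => hu1' (α.1.map_eq_one_iff.mp e), by
      obtain ⟨_, t, rfl⟩ := α
      exact isConj_iff.mpr ⟨t, rfl⟩⟩ : {v : (P : Subgroup G) // v ≠ 1 ∧ IsConj u (v : G)}))
    ⟨fun α β h => ?_, ?_⟩).symm
  · have h' : α.1 u' = β.1 u' := congrArg (fun z => z.1) h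
    obtain ⟨t, ht⟩ := (mul_mem (inv_mem β.2) α.2 : β.1⁻¹ * α.1 ∈ A)
    have hfix : β.1⁻¹ (α.1 u') = u' := by rw [h']; exact MulEquiv.symm_apply_apply _ _
    rw [← MulAut.mul_apply, ← ht] at hfix
    have hc := hF.free t t.2 u hu hu1 (mul_inv_eq_iff_eq_mul.mp (congrArg Subtype.val hfix))
    refine Subtype.ext (inv_mul_eq_one.mp ?_).symm
    rw [← ht]
    refine MulEquiv.ext fun v => Subtype.ext ?_
    exact mul_inv_eq_iff_eq_mul.mpr (hc v v.2)
  · rintro ⟨v, hv1, hv⟩
    obtain ⟨t, ht, htv⟩ := hF.fusion hu v.2 hv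
    exact ⟨⟨_, ⟨t, ht⟩, rfl⟩, Subtype.ext (Subtype.ext htv)⟩

/-- **The indicator identity.** -/
theorem ind_eq {χ : Cfsg.IrrCharacter G} (hχ : χ ∈ Cfsg.principalBlock M G)
    [Fintype (P : Subgroup G)] [DecidableEq (P : Subgroup G)] :
    (Nat.card (P : Subgroup G).normalizerMonoidHom.range : ℂ) * Nat.card P * ind χ =
      ∑ v ∈ Finset.univ.erase (1 : (P : Subgroup G)),
        (reg χ (v : G) - (χ : G → ℂ) (v : G)) := by
  classical
  set T : Finset G := Finset.univ.filter fun t => ∃ k : ℕ, orderOf t = 2 ^ k with hT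
  have hmemT : ∀ t, t ∈ T ↔ ∃ k : ℕ, orderOf t = 2 ^ k := fun t => by simp [hT]
  let F : G → ℂ := fun t => ∑ s ∈ regR t, ((χ : G → ℂ) s - (χ : G → ℂ) (t * s))
  have hFconj : ∀ {t t' : G}, IsConj t t' → F t' = F t := by
    intro t t' h
    obtain ⟨g, rfl⟩ := isConj_iff.mp h
    simp only [F, regR_conj, Finset.sum_map]
    refine Finset.sum_congr rfl fun s _ => ?_
    have e : g * t * g⁻¹ * ((MulAut.conj g).toEquiv s) = g * (t * s) * g⁻¹ := by simp [mul_assoc]
    simp only [Equiv.coe_toEmbedding]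
    rw [e, show (MulAut.conj g).toEquiv s = g * s * g⁻¹ from rfl, char_conj_apply, char_conj_apply]
  have hG : (Nat.card G : ℂ) ≠ 0 := Nat.cast_ne_zero.mpr Nat.card_pos.ne'
  -- the indicator
  have h1 : (Nat.card G : ℂ) * ind χ = ∑ t ∈ T, F t := by
    have hone : (if χ = oneChar G then 1 else 0 : ℂ) = (Nat.card G : ℂ)⁻¹ * ∑ g, (χ : G → ℂ) g := by
      have h : (Nat.card G : ℂ)⁻¹ * ∑ g, (χ : G → ℂ) g =
          Cfsg.classInner (χ : G → ℂ) (oneChar G : G → ℂ) := by
        simp [Cfsg.classInner, oneChar_apply]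
      rw [h]
      split_ifs with hc
      · rw [hc, classInner_self_irr]
      · rw [classInner_irr_of_ne hc]
    rw [coe_ind, hone, ← mul_sub, ← mul_assoc, mul_inv_cancel₀ hG, one_mul,
      sum_decomp hmemT (fun g => (χ : G → ℂ) (g * g)), sum_decomp hmemT (fun g => (χ : G → ℂ) g),
      ← Finset.sum_sub_distrib]
    refine Finset.sum_congr rfl fun t ht => ?_
    simp only [F]
    rw [Finset.sum_sub_distrib, ← sum_regR_sq t (fun g => (χ : G → ℂ) g)]
    congr 1
    refine Finset.sum_congr rfl fun s hs => ?_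
    have h2 : t * t = 1 := by rw [← pow_two]; exact hF.sq_of_pelt ((hmemT t).mp ht)
    rw [(mem_regR.mp hs).2.symm.mul_mul_mul_comm, h2, one_mul]
  -- through the classes
  have h2 : (Nat.card (P : Subgroup G).normalizerMonoidHom.range : ℂ) * ∑ t ∈ T, F t =
      ∑ v ∈ Finset.univ.erase (1 : (P : Subgroup G)),
        (Nat.card {t : G // IsConj (v : G) t} : ℂ) * F (v : G) := by
    have hcls : ∀ v : (P : Subgroup G), (Nat.card {t : G // IsConj (v : G) t} : ℂ) * F (v : G) =
        ∑ t ∈ T, if IsConj (v : G) t then F t else 0 := fun v => by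
      rw [← Finset.sum_filter, Finset.sum_congr rfl fun t ht =>
        hFconj (t := (v : G)) (Finset.mem_filter.mp ht).2, Finset.sum_const, nsmul_eq_mul,
        Nat.card_eq_fintype_card, Fintype.card_subtype]
      congr 3
      ext t
      simp only [Finset.mem_filter, Finset.mem_univ, true_and, hmemT, iff_and_self]
      intro h
      obtain ⟨g, rfl⟩ := isConj_iff.mp h
      obtain ⟨k, hk⟩ := hF.pelt v.2
      exact ⟨k, by rw [← MulAut.conj_apply, MulEquiv.orderOf_eq, hk]⟩
    rw [Finset.sum_congr rfl fun v _ => hcls v, Finset.sum_comm, Finset.mul_sum]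
    refine Finset.sum_congr rfl fun t ht => ?_
    rw [← Finset.sum_filter, Finset.sum_const, nsmul_eq_mul]
    by_cases ht1 : t = 1
    · subst ht1
      simp [F]
    -- a conjugate inside `P`
    obtain ⟨k, hk⟩ := (hmemT t).mp ht
    obtain ⟨S, hS⟩ := (IsPGroup.of_card (n := k) (by rw [Nat.card_zpowers, hk]) :
      IsPGroup 2 (Subgroup.zpowers t)).exists_le_sylow
    obtain ⟨g, hg⟩ := MulAction.exists_smul_eq G S P
    have hu : g * t * g⁻¹ ∈ (P : Subgroup G) := by
      rw [← hg, Sylow.coe_subgroup_smul]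
      exact Subgroup.smul_mem_pointwise_smul _ (MulAut.conj g) _ (hS (Subgroup.mem_zpowers t))
    have hu1 : g * t * g⁻¹ ≠ 1 := fun e => ht1 (conj_eq_one_iff.mp e)
    rw [← card_conj hF hu hu1, Nat.card_eq_fintype_card, Fintype.card_subtype]
    congr 3
    ext v
    simp only [Finset.mem_filter, Finset.mem_univ, true_and, Finset.mem_erase, and_true]
    have hc : IsConj t (g * t * g⁻¹) := isConj_iff.mpr ⟨g, rfl⟩
    exact ⟨fun ⟨h0, h⟩ => ⟨h0, (hc.trans h).symm⟩, fun ⟨h0, h⟩ => ⟨h0, hc.symm.trans h.symm⟩⟩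
  apply mul_left_cancel₀ hG
  calc (Nat.card G : ℂ) * ((Nat.card (P : Subgroup G).normalizerMonoidHom.range : ℂ) * Nat.card P *
        ind χ)
      = (Nat.card P : ℂ) * ((Nat.card (P : Subgroup G).normalizerMonoidHom.range : ℂ) *
          ((Nat.card G : ℂ) * ind χ)) := by ring
    _ = _ := by
      rw [h1, h2, Finset.mul_sum, Finset.mul_sum]
      refine Finset.sum_congr rfl fun v hv => ?_
      have hv1 : (v : G) ≠ 1 := fun e => Finset.ne_of_mem_erase hv (Subtype.ext e)
      obtain ⟨_, -, -, -, hcard⟩ := card_regR hF v.2 hv1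
      have hFv : F (v : G) = (regR (v : G)).card * (reg χ (v : G) - (χ : G → ℂ) (v : G)) := by
        rw [mul_sub, reg, mul_inv_cancel_left₀ (Nat.cast_ne_zero.mpr (regR_nonempty hF))]
        simp only [F]
        rw [Finset.sum_sub_distrib, Finset.sum_congr rfl fun s hs =>
          (hF.apply_mul_regular v.2 hv1 hM (mem_regR.mp hs).1 (mem_regR.mp hs).2).1 χ hχ,
          Finset.sum_const, nsmul_eq_mul]
      have hcl := Characters.Complete.card_conjugates_mul_centralizer (v : G)
      rw [← BrauerMap.PrincipalSection.centralizer_zpowers_eq, ← hcard] at hcl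
      rw [hFv, ← hcl]
      push_cast
      ring

/-- **The indicator against a section.** -/
theorem sum_ind_mul {u : G} (hu : u ∈ P) (hu1 : u ≠ 1) :
    ∑ χ ∈ bset (Cfsg.principalBlock M G), (ind χ : ℂ) * (χ : G → ℂ) u = -1 := by
  classical
  haveI := Fintype.ofFinite (P : Subgroup G)
  set e : ℂ := (Nat.card (P : Subgroup G).normalizerMonoidHom.range : ℂ) with he
  have h0 : e * Nat.card P ≠ 0 :=
    mul_ne_zero (Nat.cast_ne_zero.mpr Nat.card_pos.ne') (Nat.cast_ne_zero.mpr Nat.card_pos.ne')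
  apply mul_left_cancel₀ h0
  have hreal : ∀ χ : Cfsg.IrrCharacter G, conj ((χ : G → ℂ) u) = (χ : G → ℂ) u := fun χ => by
    rw [← apply_inv (isCharacter_irr χ), hF.inv_eq hu]
  have hsing : 2 ∣ orderOf u := by
    obtain ⟨k, hk⟩ := hF.pelt hu
    rw [hk]
    refine dvd_pow_self 2 fun h => hu1 (orderOf_eq_one_iff.mp ?_)
    rw [hk, h, pow_zero]
  have hzero : ∀ v : G, ∑ χ ∈ bset (Cfsg.principalBlock M G), reg χ v * (χ : G → ℂ) u = 0 := by
    intro v
    simp only [reg, mul_assoc, Finset.sum_mul, ← Finset.mul_sum]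
    rw [Finset.sum_comm]
    refine mul_eq_zero.mpr (Or.inr (Finset.sum_eq_zero fun s hs => ?_))
    have h := weak_orthogonality hM (Cfsg.Agent.Lib.Blocks.isPBlock_principalBlock (M := M) (G := G))
      (mem_regR.mp hs).1 hsing
    rw [finsum_mem_eq_finite_toFinset_sum _ (Set.toFinite _)] at h
    exact Eq.trans (Finset.sum_congr rfl fun χ _ => by rw [hreal]) h
  calc e * Nat.card P * ∑ χ ∈ bset (Cfsg.principalBlock M G), (ind χ : ℂ) * (χ : G → ℂ) u
      = ∑ χ ∈ bset (Cfsg.principalBlock M G), ∑ v ∈ Finset.univ.erase (1 : (P : Subgroup G)),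
          (reg χ (v : G) * (χ : G → ℂ) u - (χ : G → ℂ) (v : G) * (χ : G → ℂ) u) := by
        rw [Finset.mul_sum]
        refine Finset.sum_congr rfl fun χ hχ => ?_
        rw [← mul_assoc, he, ind_eq hF hM (mem_bset.mp hχ), Finset.sum_mul]
        exact Finset.sum_congr rfl fun v _ => sub_mul _ _ _
    _ = ∑ v ∈ Finset.univ.erase (1 : (P : Subgroup G)),
          -(if IsConj (v : G) u then (Nat.card P : ℂ) else 0) := by
        rw [Finset.sum_comm]
        refine Finset.sum_congr rfl fun v hv => ?_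
        rw [Finset.sum_sub_distrib, hzero, zero_sub,
          hF.sum_mul v.2 hu (fun e => Finset.ne_of_mem_erase hv (Subtype.ext e)) hM]
    _ = _ := by
        have hcount : ((Finset.univ.erase (1 : (P : Subgroup G))).filter
            fun v : (P : Subgroup G) => IsConj (v : G) u).card =
            Nat.card (P : Subgroup G).normalizerMonoidHom.range := by
          rw [← card_conj hF hu hu1, ← Nat.card_eq_finsetCard]
          refine Nat.card_congr (Equiv.subtypeEquivRight fun v => ?_)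
          simp only [Finset.mem_filter, Finset.mem_univ, Finset.mem_erase, and_true]
          exact and_congr_right fun _ => isConj_comm
        rw [Finset.sum_neg_distrib, ← Finset.sum_filter, Finset.sum_const, nsmul_eq_mul, hcount, he,
          mul_neg_one]

end Cfsg.Agent.Lib.InvolutionFree.Count
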