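import Cfsg.Agent.Lib.InvolutionFree.Auto
import Cfsg.Agent.Lib.HomocyclicFree.Fourier

/-!
# Orbits of a free automorphism group, and the linear characters on three orbits of five elements
-/

set_option autoImplicit false
set_option linter.unusedSectionVars false
set_option linter.style.haveILetI false

namespace Cfsg.Agent.Lib.InvolutionFree.OrbitChar

open Cfsg.Agent.Lib.InvolutionFree.Auto

universe u

variable {D : Type u} [CommGroup D] [Finite D] {A : Subgroup (MulAut D)}

/-- Representatives of the orbits on the nontrivial elements. -/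
theorem exists_reps (hA : IsFree A) {r : ℕ} (hcard : Nat.card A * r + 1 = Nat.card D) :
    ∃ rep : Fin r → D, (∀ j, rep j ≠ 1) ∧
      (∀ v : D, v ≠ 1 → ∃ α ∈ A, ∃ j, α (rep j) = v) ∧
      Function.Injective fun z : A × Fin r => z.1.1 (rep z.2) := by
  classical
  haveI := Fintype.ofFinite D
  let Y := {v : D // v ≠ 1}
  letI : MulAction A Y :=
    { smul := fun γ v => ⟨γ.1 v.1, fun h => v.2 (γ.1.map_eq_one_iff.mp h)⟩
      one_smul := fun _ => rfl
      mul_smul := fun _ _ _ => rfl }
  let O := MulAction.orbitRel.Quotient A Y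
  haveI := Fintype.ofFinite O
  have horb : ∀ x : Y, Nat.card (MulAction.orbit A x) = Nat.card A := fun x => by
    refine (Nat.card_congr (Equiv.ofBijective
      (fun γ : A => (⟨γ • x, MulAction.mem_orbit x γ⟩ : MulAction.orbit A x)) ⟨fun γ δ h => ?_, ?_⟩)).symm
    · have h' : γ.1 x.1 = δ.1 x.1 := congrArg (fun z => z.1.1) h
      refine Subtype.ext (inv_mul_eq_one.mp (hA _ (mul_mem (inv_mem δ.2) γ.2) x.1 x.2 ?_)).symm
      rw [MulAut.mul_apply, h']
      exact MulEquiv.symm_apply_apply _ _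
    · rintro ⟨_, γ, rfl⟩
      exact ⟨γ, rfl⟩
  have hY : Nat.card Y + 1 = Nat.card D := by
    rw [Nat.card_eq_fintype_card, Fintype.card_subtype_compl, Fintype.card_subtype_eq,
      ← Nat.card_eq_fintype_card]
    have := Nat.card_pos (α := D)
    omega
  have hO : Fintype.card O = r := by
    rw [Nat.card_congr (MulAction.selfEquivSigmaOrbits A Y), Nat.card_sigma,
      Finset.sum_congr rfl fun ω _ => horb _, Finset.sum_const, Finset.card_univ, smul_eq_mul] at hY
    refine Nat.eq_of_mul_eq_mul_left (Nat.card_pos (α := A)) ?_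
    rw [mul_comm]
    exact Nat.add_right_cancel (hY.trans hcard.symm)
  let e := (Fintype.equivFinOfCardEq hO).symm
  refine ⟨fun j => ((e j).out : Y).1, fun j => ((e j).out : Y).2, fun v hv => ?_, fun z z' h => ?_⟩
  · obtain ⟨j, hj⟩ := e.surjective (Quotient.mk'' (⟨v, hv⟩ : Y))
    obtain ⟨α, hα⟩ := MulAction.orbitRel_apply.mp
      (Quotient.eq''.mp ((Quotient.out_eq' (e j)).trans hj))
    refine ⟨(α.1)⁻¹, inv_mem α.2, j, ?_⟩
    have h' : α.1 v = ((e j).out : Y).1 := congrArg Subtype.val hα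
    show α.1⁻¹ ((e j).out : Y).1 = v
    rw [← h']
    exact MulEquiv.symm_apply_apply _ _
  · obtain ⟨α, j⟩ := z
    obtain ⟨β, l⟩ := z'
    have h' : α.1 ((e j).out : Y).1 = β.1 ((e l).out : Y).1 := h
    have hjl : j = l := e.injective (by
      rw [← Quotient.out_eq' (e j), ← Quotient.out_eq' (e l)]
      refine Quotient.sound' (MulAction.orbitRel_apply.mpr ⟨α⁻¹ * β, Subtype.ext ?_⟩)
      show (α.1⁻¹ * β.1) ((e l).out : Y).1 = ((e j).out : Y).1
      rw [MulAut.mul_apply, ← h']
      exact MulEquiv.symm_apply_apply _ _)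
    subst hjl
    refine Prod.ext (Subtype.ext (inv_mul_eq_one.mp (hA _ (mul_mem (inv_mem β.2) α.2) _
      ((e j).out : Y).2 ?_)).symm) rfl
    rw [MulAut.mul_apply, h']
    exact MulEquiv.symm_apply_apply _ _

/-- Summing over the nontrivial elements. -/
theorem sum_reps {r : ℕ} {rep : Fin r → D} (h1 : ∀ j, rep j ≠ 1)
    (hsur : ∀ v : D, v ≠ 1 → ∃ α ∈ A, ∃ j, α (rep j) = v)
    (hinj : Function.Injective fun z : A × Fin r => z.1.1 (rep z.2))
    [Fintype D] [DecidableEq D] [Fintype A] {V : Type*} [AddCommMonoid V] (f : D → V) :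
    ∑ v ∈ Finset.univ.erase 1, f v = ∑ j, ∑ α : A, f (α.1 (rep j)) := by
  rw [Finset.sum_comm, ← Fintype.sum_prod_type']
  refine (Finset.sum_bij (fun z _ => z.1.1 (rep z.2)) (fun z _ => ?_) (fun a _ b _ h => hinj h)
    (fun v hv => ?_) fun _ _ => rfl).symm
  · exact Finset.mem_erase.mpr ⟨fun h => h1 z.2 (z.1.1.map_eq_one_iff.mp h), Finset.mem_univ _⟩
  · obtain ⟨α, hα, j, hj⟩ := hsur v (Finset.ne_of_mem_erase hv)
    exact ⟨(⟨α, hα⟩, j), Finset.mem_univ _, hj⟩

/-- **A character that is `-3` on a given orbit and `1` on the two others.** -/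
theorem exists_char (hA : IsFree A) (hAc : Nat.card A = 5) (hD : Nat.card D = 16)
    (hsq : ∀ u : D, u ^ 2 = 1) {rep : Fin 3 → D} (h1 : ∀ j, rep j ≠ 1)
    (hsur : ∀ v : D, v ≠ 1 → ∃ α ∈ A, ∃ j, α (rep j) = v)
    (hinj : Function.Injective fun z : A × Fin 3 => z.1.1 (rep z.2)) [Fintype A] (j : Fin 3) :
    ∃ lam : D →* ℂˣ, ∀ l : Fin 3,
      ∑ α : A, (lam (α.1 (rep l)) : ℂ) = if l = j then -3 else 1 := by
  classical
  haveI := Fintype.ofFinite D
  have := Monoid.neZero_exponent_of_finite (G := D)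
  haveI : Finite (D →* ℂˣ) := Nat.finite_of_card_ne_zero
    (by rw [CommGroup.card_monoidHom_of_hasEnoughRootsOfUnity]; exact Nat.card_pos.ne')
  haveI := Fintype.ofFinite (D →* ℂˣ)
  have hA5 : Fintype.card A = 5 := by rw [← Nat.card_eq_fintype_card, hAc]
  have hval : ∀ (lam : D →* ℂˣ) (v : D), (lam v : ℂ) = if lam v = 1 then (1 : ℂ) else -1 := by
    intro lam v
    split_ifs with h
    · rw [h, Units.val_one]
    · have h2 : (lam v : ℂ) ^ 2 = 1 := by
        rw [← Units.val_pow_eq_pow_val, ← map_pow, hsq, map_one, Units.val_one]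
      exact (sq_eq_one_iff.mp h2).resolve_left fun e => h (Units.val_eq_one.mp e)
  -- two possible sums
  have hs : ∀ (lam : D →* ℂˣ), lam ≠ 1 → ∀ l,
      ∑ α : A, (lam (α.1 (rep l)) : ℂ) = 1 ∨ ∑ α : A, (lam (α.1 (rep l)) : ℂ) = -3 := by
    intro lam hlam l
    set N := Finset.univ.filter fun α : A => ¬ lam (α.1 (rep l)) = 1 with hN
    have hN5 : N.card ≤ 5 := hA5 ▸ Finset.card_le_univ N
    have hsum : ∑ α : A, (lam (α.1 (rep l)) : ℂ) = 5 - 2 * (N.card : ℂ) := by
      rw [Finset.sum_congr rfl fun α _ => hval lam _, Finset.sum_ite, Finset.sum_const,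
        Finset.sum_const, ← hN, nsmul_one, nsmul_eq_mul, mul_neg_one]
      have h : (Finset.univ.filter fun α : A => lam (α.1 (rep l)) = 1).card + N.card = 5 :=
        hA5 ▸ Finset.card_filter_add_card_filter_not _
      have h' : ((Finset.univ.filter fun α : A => lam (α.1 (rep l)) = 1).card : ℂ) + N.card = 5 := by
        exact_mod_cast h
      linear_combination h'
    -- the orbit multiplies to one
    have hprod : ∏ α : A, α.1 (rep l) = 1 := by
      by_contra hw
      obtain ⟨γ, hγ⟩ := Fintype.exists_ne_of_one_lt_card (by omega : 1 < Fintype.card A) (1 : A)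
      refine hγ (Subtype.ext (hA γ.1 γ.2 _ hw ?_))
      rw [map_prod]
      exact Fintype.prod_equiv (Equiv.mulLeft γ) _ _ fun α => rfl
    have hev : Even N.card := by
      have h : ∏ α : A, (lam (α.1 (rep l)) : ℂ) = 1 := by
        rw [← Units.coe_prod, ← map_prod, hprod, map_one, Units.val_one]
      rw [Finset.prod_congr rfl fun α _ => hval lam _, Finset.prod_ite, Finset.prod_const,
        Finset.prod_const, one_pow, one_mul, ← hN] at h
      rcases Nat.even_or_odd N.card with he | ho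
      · exact he
      · rw [ho.neg_one_pow] at h
        norm_num at h
    -- not constantly one
    have hne : N.card ≠ 0 := by
      intro h0
      have hker : ∀ α : A, α.1 (rep l) ∈ lam.ker := fun α => by
        by_contra hh
        exact Finset.notMem_empty α (Finset.card_eq_zero.mp h0 ▸
          Finset.mem_filter.mpr ⟨Finset.mem_univ _, hh⟩)
      set K : Subgroup D := Subgroup.closure (Set.range fun α : A => α.1 (rep l)) with hK
      have hKker : K ≤ lam.ker := (Subgroup.closure_le _).mpr (by rintro _ ⟨α, rfl⟩; exact hker α)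
      have hinv : ∀ γ ∈ A, ∀ v ∈ K, γ v ∈ K := fun γ hγ v hv => by
        have hm : K.map γ.toMonoidHom ≤ K := by
          rw [hK, MonoidHom.map_closure]
          refine Subgroup.closure_mono ?_
          rintro _ ⟨_, ⟨α, rfl⟩, rfl⟩
          exact ⟨⟨γ, hγ⟩ * α, rfl⟩
        exact hm ⟨v, hv, rfl⟩
      have hd := card_dvd_of_free {v : D | v ∈ K ∧ v ≠ 1}
        (fun γ hγ v hv => ⟨hinv γ hγ v hv.1, fun h => hv.2 (γ.map_eq_one_iff.mp h)⟩)
        (fun γ hγ v hv h => hA γ hγ v hv.2 h)
      have hge : 5 ≤ Nat.card {v : D | v ∈ K ∧ v ≠ 1} := by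
        rw [← hAc]
        refine Nat.card_le_card_of_injective (fun α : A => (⟨α.1 (rep l), Subgroup.subset_closure
          ⟨α, rfl⟩, fun h => h1 l (α.1.map_eq_one_iff.mp h)⟩ : {v : D | v ∈ K ∧ v ≠ 1})) ?_
        intro α β h
        exact (Prod.ext_iff.mp (hinj (a₁ := (α, l)) (a₂ := (β, l))
          (congrArg Subtype.val h))).1
      have he := card_ne_one K
      obtain ⟨t, ht, hKc⟩ := (Nat.dvd_prime_pow Nat.prime_two).mp
        (show Nat.card K ∣ 2 ^ 4 by rw [show (2 : ℕ) ^ 4 = 16 by norm_num, ← hD]; exact K.card_subgroup_dvd_card)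
      rw [hAc] at hd
      have hK16 : Nat.card K = 16 := by
        rw [hKc] at he ⊢
        interval_cases t <;> omega
      refine hlam (MonoidHom.ext fun v => ?_)
      exact hKker (Subgroup.eq_top_of_card_eq K (hK16.trans hD.symm) ▸ Subgroup.mem_top v)
    obtain ⟨c, hc⟩ := hev
    rcases (show c = 1 ∨ c = 2 by omega) with rfl | rfl
    · left; rw [hsum, hc]; norm_num
    · right; rw [hsum, hc]; norm_num
  -- some character is `-3` on `j`
  obtain ⟨lam, hlam, hj⟩ : ∃ lam : D →* ℂˣ, lam ≠ 1 ∧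
      ∑ α : A, (lam (α.1 (rep j)) : ℂ) = -3 := by
    by_contra h
    push Not at h
    have htot : ∑ lam : D →* ℂˣ, ∑ α : A, (lam (α.1 (rep j)) : ℂ) = 0 := by
      rw [Finset.sum_comm]
      refine Finset.sum_eq_zero fun α _ => ?_
      rw [HomocyclicFree.Fourier.sum_dual, if_neg fun e => h1 j (α.1.map_eq_one_iff.mp e)]
    rw [← Finset.add_sum_erase _ _ (Finset.mem_univ (1 : D →* ℂˣ)),
      Finset.sum_congr rfl (s₁ := Finset.univ.erase 1) fun lam hl =>
        (hs lam (Finset.ne_of_mem_erase hl) j).resolve_right (h lam (Finset.ne_of_mem_erase hl)),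
      Finset.sum_const, Finset.card_erase_of_mem (Finset.mem_univ _), Finset.card_univ,
      HomocyclicFree.Fourier.card_dual, ← Nat.card_eq_fintype_card, hD] at htot
    simp [hA5] at htot
    norm_num at htot
  refine ⟨lam, fun l => ?_⟩
  have hall : ∑ l, ∑ α : A, (lam (α.1 (rep l)) : ℂ) = -1 := by
    rw [← sum_reps h1 hsur hinj (fun v => (lam v : ℂ))]
    obtain ⟨z, hz⟩ : ∃ z, lam z ≠ 1 := by
      by_contra h
      push Not at h
      exact hlam (MonoidHom.ext h)
    have hz0 : ∑ v : D, (lam v : ℂ) = 0 := by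
      have e : ∑ v : D, (lam v : ℂ) = (lam z : ℂ) * ∑ v : D, (lam v : ℂ) := by
        rw [Finset.mul_sum]
        exact (Fintype.sum_equiv (Equiv.mulLeft z) _ _ fun v => by simp).symm
      have hzne : (lam z : ℂ) ≠ 1 := fun e' => hz (Units.val_eq_one.mp e')
      by_contra hne
      exact hzne ((mul_eq_right₀ hne).mp e.symm)
    rw [← Finset.add_sum_erase _ _ (Finset.mem_univ (1 : D)), map_one, Units.val_one] at hz0
    linear_combination hz0
  have hint : ∀ l, ∃ c : ℤ, (c = 1 ∨ c = -3) ∧ ∑ α : A, (lam (α.1 (rep l)) : ℂ) = c := fun l => by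
    rcases hs lam hlam l with h | h
    · exact ⟨1, .inl rfl, by rw [h]; norm_num⟩
    · exact ⟨-3, .inr rfl, by rw [h]; norm_num⟩
  choose c hc hcs using hint
  simp only [hcs] at hall hj ⊢
  rw [Fin.sum_univ_three] at hall
  have hall' : c 0 + c 1 + c 2 = -1 := by exact_mod_cast hall
  have hj' : c j = -3 := by exact_mod_cast hj
  have hl : c l = if l = j then -3 else 1 := by
    split_ifs with h
    · rw [h, hj']
    · have := hc 0; have := hc 1; have := hc 2
      fin_cases l <;> fin_cases j <;> simp at h hj' ⊢ <;> omega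
  rw [hl]
  split_ifs <;> norm_num

end Cfsg.Agent.Lib.InvolutionFree.OrbitChar
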