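import Cfsg.Agent.Lib.InvolutionFree.Hecke
import Cfsg.Agent.Lib.InvolutionFree.Combi
import Cfsg.Agent.Lib.InvolutionFree.OrbitChar

/-!
# The principal block with one orbit, or three orbits of five elements
-/

set_option autoImplicit false
set_option linter.style.haveILetI false
set_option linter.unusedSectionVars false
set_option maxHeartbeats 1000000

namespace Cfsg.Agent.Lib.InvolutionFree.Few

open Cfsg.Agent.Lib.Blocks Cfsg.Agent.Lib.Blocks.Contrib
open Cfsg.Agent.Lib.BrauerPairs.Bridge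
open Cfsg.Agent.Lib.Characters.Basic
open Cfsg.Agent.Lib.InvolutionFree.Section Cfsg.Agent.Lib.InvolutionFree.Count

universe u

attribute [local instance] Ideal.Quotient.field

variable {M : Ideal Cfsg.AlgInt} [M.IsMaximal] {G : Type u} [Group G] [Fintype G]

theorem free_of_isFree (P : Sylow 2 G) (hsq : ∀ x ∈ P, x ^ 2 = 1)
    (hfree : ∀ α ∈ (P : Subgroup G).normalizerMonoidHom.range, ∀ u : (P : Subgroup G), u ≠ 1 →
      α u = u → α = 1) : Free P := by
  refine ⟨hsq, fun t ht u hu hu1 htu v hv => ?_⟩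
  have h1 := hfree ((P : Subgroup G).normalizerMonoidHom ⟨t, ht⟩) ⟨_, rfl⟩ ⟨u, hu⟩
    (fun e => hu1 (congrArg Subtype.val e)) (Subtype.ext (mul_inv_eq_iff_eq_mul.mpr htu))
  have h2 := congrArg (fun α : MulAut (P : Subgroup G) => ((α ⟨v, hv⟩ : (P : Subgroup G)) : G)) h1
  exact mul_inv_eq_iff_eq_mul.mp h2

theorem isFree_range {P : Sylow 2 G} (hF : Free P) {α : MulAut (P : Subgroup G)}
    (hα : α ∈ (P : Subgroup G).normalizerMonoidHom.range) {u : (P : Subgroup G)} (hu : u ≠ 1)
    (h : α u = u) : α = 1 := by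
  obtain ⟨t, rfl⟩ := hα
  have hc := hF.free t t.2 u u.2 (fun e => hu (Subtype.ext e))
    (mul_inv_eq_iff_eq_mul.mp (congrArg Subtype.val h))
  exact MulEquiv.ext fun v => Subtype.ext (mul_inv_eq_iff_eq_mul.mpr (hc v v.2))

variable {P : Sylow 2 G} (hF : Free P) [Fact (Nat.Prime 2)] [CharP (Res M) 2]
  (hM : Cfsg.IsPModular 2 M)
include hF hM

/-- One orbit. -/
theorem card_transitive {σ : MulAut (P : Subgroup G)}
    (hσ : σ ∈ (P : Subgroup G).normalizerMonoidHom.range)
    (hord : orderOf σ = Nat.card (P : Subgroup G).normalizerMonoidHom.range)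
    (htr : Nat.card (P : Subgroup G).normalizerMonoidHom.range + 1 = Nat.card P) :
    Nat.card (Cfsg.principalBlock M G) = Nat.card P := by
  classical
  haveI := Fintype.ofFinite (P : Subgroup G)
  set e := Nat.card (P : Subgroup G).normalizerMonoidHom.range with he
  have hepos : 0 < e := Nat.card_pos
  set Y := (Finset.univ : Finset (P : Subgroup G)).erase 1 with hY
  have hYc : Y.card = e := by
    rw [hY, Finset.card_erase_of_mem (Finset.mem_univ _), Finset.card_univ,
      ← Nat.card_eq_fintype_card]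
    omega
  obtain ⟨u, hu⟩ : Y.Nonempty := Finset.card_pos.mp (by omega)
  have hne : ∀ v ∈ Y, (v : G) ≠ 1 := fun v hv e' =>
    Finset.ne_of_mem_erase hv (Subtype.ext e')
  have hu1 := hne u hu
  -- one class
  have hall : ∀ v ∈ Y, IsConj (u : G) (v : G) := by
    have h := card_conj hF u.2 hu1
    rw [← he, ← hYc, Nat.card_eq_fintype_card, Fintype.card_subtype] at h
    have hsub : (Finset.univ.filter fun v : (P : Subgroup G) => v ≠ 1 ∧ IsConj (u : G) (v : G)) = Y :=
      Finset.eq_of_subset_of_card_le (fun v hv => Finset.mem_erase.mpr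
        ⟨(Finset.mem_filter.mp hv).2.1, Finset.mem_univ _⟩) h.ge
    intro v hv
    rw [← hsub] at hv
    exact (Finset.mem_filter.mp hv).2.2
  have hint : ∀ χ : Cfsg.IrrCharacter G, ∃ c : ℤ, (χ : G → ℂ) (u : G) = c := fun χ =>
    Fg6.NormThree.exists_int_involution χ (by rw [← pow_two]; exact hF.sq u u.2)
  choose x hx using hint
  have hmult : ∀ (v : {v // v ∈ Y}) (χ : Cfsg.IrrCharacter G), ∃ m : ℕ,
      χ ∈ Cfsg.principalBlock M G →
      ((m : ℂ) * Nat.card P =
        reg χ (v.1 : G) + ∑ w ∈ Y, (((1 : (P : Subgroup G) →* ℂˣ) w : ℂˣ) : ℂ) * (χ : G → ℂ) (w : G) ∧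
      ((1 : (P : Subgroup G) →* ℂˣ) = 1 →
        ∀ [Fintype (Subgroup.centralizer ((Subgroup.zpowers (v.1 : G) : Subgroup G) : Set G))],
        (m : ℂ) * Nat.card (Subgroup.centralizer ((Subgroup.zpowers (v.1 : G) : Subgroup G) : Set G)) =
          ∑ c : Subgroup.centralizer ((Subgroup.zpowers (v.1 : G) : Subgroup G) : Set G),
            (χ : G → ℂ) c)) := by
    intro v χ
    by_cases hχ : χ ∈ Cfsg.principalBlock M G
    · obtain ⟨m, hm⟩ := exists_mult hF hM v.1.2 (hne v.1 v.2) hχ 1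
      exact ⟨m, fun _ => hm⟩
    · exact ⟨0, fun h => absurd h hχ⟩
  choose m hm using hmult
  have htotal : ∀ χ ∈ Cfsg.principalBlock M G,
      ((∑ v : {v // v ∈ Y}, m v χ : ℕ) : ℤ) = (e : ℤ) * (ind χ + x χ) := by
    intro χ hχ
    have hval : ∀ w ∈ Y, (χ : G → ℂ) (w : G) = (x χ : ℂ) := fun w hw => by
      rw [← hx χ, char_eq_of_isConj χ (hall w hw)]
    have h1 : ∀ v : {v // v ∈ Y}, (m v χ : ℂ) * Nat.card P = reg χ (v.1 : G) + (e : ℂ) * x χ := by
      intro v
      rw [(hm v χ hχ).1]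
      congr 1
      rw [Finset.sum_congr rfl fun w hw => by rw [MonoidHom.one_apply, Units.val_one, one_mul, hval w hw],
        Finset.sum_const, hYc, nsmul_eq_mul]
    have h2 := ind_eq hF hM hχ
    rw [← he, ← hY, Finset.sum_sub_distrib, Finset.sum_congr rfl hval, Finset.sum_const, hYc,
      nsmul_eq_mul] at h2
    have h3 : ((∑ v : {v // v ∈ Y}, m v χ : ℕ) : ℂ) * Nat.card P =
        (e : ℂ) * (ind χ + x χ) * Nat.card P := by
      rw [Nat.cast_sum, Finset.sum_mul, Finset.sum_congr rfl fun v _ => h1 v,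
        Finset.sum_add_distrib, Finset.sum_const, Finset.card_univ, Fintype.card_coe, hYc,
        nsmul_eq_mul, Finset.sum_coe_sort Y fun v : (P : Subgroup G) => reg χ (v : G)]
      have hq : (Nat.card P : ℂ) = (e : ℂ) + 1 := by rw [← htr]; push_cast; rfl
      rw [hq] at h2 ⊢
      linear_combination -h2
    have h4 := mul_right_cancel₀ (Nat.cast_ne_zero.mpr Nat.card_pos.ne') h3
    have h5 : (((∑ v : {v // v ∈ Y}, m v χ : ℕ) : ℤ) : ℂ) = (((e : ℤ) * (ind χ + x χ) : ℤ) : ℂ) := by
      rw [Int.cast_natCast, h4]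
      push_cast
      rfl
    exact Int.cast_injective h5
  -- the bound from every point
  have hbig : (e : ℤ) * e ≤ (e : ℤ) * ∑ χ ∈ bset (Cfsg.principalBlock M G), (ind χ + x χ) := by
    have h1 : e * e ≤ ∑ v : {v // v ∈ Y}, ∑ χ ∈ bset (Cfsg.principalBlock M G), m v χ := by
      calc e * e = ∑ _v : {v // v ∈ Y}, e := by simp [hYc]
        _ ≤ _ := Finset.sum_le_sum fun v _ => by
          haveI := Fintype.ofFinite
            (Subgroup.centralizer ((Subgroup.zpowers (v.1 : G) : Subgroup G) : Set G))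
          exact Hecke.le_sum_fixed hF hM v.1.2 (hne v.1 v.2) hσ hord htr (fun χ => m v χ)
            fun χ hχ => (hm v χ hχ).2 rfl
    rw [Finset.sum_comm] at h1
    rw [Finset.mul_sum, ← Finset.sum_congr rfl fun χ hχ => htotal χ (mem_bset.mp hχ)]
    exact_mod_cast h1
  haveI := Fintype.ofFinite (Cfsg.principalBlock M G)
  have hsub : ∀ f : Cfsg.IrrCharacter G → ℂ, ∑ χ ∈ bset (Cfsg.principalBlock M G), f χ =
      ∑ χ : Cfsg.principalBlock M G, f χ.1 := fun f =>
    Finset.sum_subtype _ (fun χ => mem_bset) f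
  rw [Nat.card_eq_fintype_card (α := Cfsg.principalBlock M G)]
  refine Combi.transitive (a := fun χ : Cfsg.principalBlock M G => ind χ.1)
    (x := fun χ => x χ.1) (fun χ => ind_bound χ.1) (fun χ h => ?_) (fun χ => ?_) ?_ ?_ ?_
  · exact hF.apply_ne_zero u.2 hu1 hM χ.2 (by rw [hx, show x χ.1 = 0 from h, Int.cast_zero])
  · have h := htotal χ.1 χ.2
    have h0 : (0 : ℤ) ≤ (e : ℤ) * (ind χ.1 + x χ.1) := h ▸ Int.natCast_nonneg _
    exact nonneg_of_mul_nonneg_right h0 (by exact_mod_cast hepos)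
  · rw [← Finset.sum_subtype (bset (Cfsg.principalBlock M G)) (fun χ => mem_bset)
      fun χ => ind χ + x χ]
    have := le_of_mul_le_mul_left hbig (by exact_mod_cast hepos)
    have : (Nat.card P : ℤ) = e + 1 := by exact_mod_cast htr.symm
    omega
  · have h := sum_ind_mul hF hM u.2 hu1
    rw [hsub, Finset.sum_congr rfl fun χ _ => by rw [hx]] at h
    exact_mod_cast h
  · have h := hF.sum_mul u.2 u.2 hu1 hM
    rw [if_pos (IsConj.refl _), hsub, Finset.sum_congr rfl fun χ _ => by rw [hx]] at h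
    exact_mod_cast h

/-- Three orbits of five elements. -/
theorem le_card_five (hq : Nat.card P = 16)
    (he : Nat.card (P : Subgroup G).normalizerMonoidHom.range = 5) :
    8 ≤ Nat.card (Cfsg.principalBlock M G) := by
  classical
  haveI := Fintype.ofFinite (P : Subgroup G)
  letI : CommGroup (P : Subgroup G) :=
    { (inferInstance : Group (P : Subgroup G)) with
      mul_comm := fun a b => Subtype.ext (hF.comm a a.2 b b.2) }
  set A := (P : Subgroup G).normalizerMonoidHom.range
  haveI := Fintype.ofFinite A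
  have hA5 : Fintype.card A = 5 := by rw [← Nat.card_eq_fintype_card, he]
  have hfree : Auto.IsFree A := fun α hα v hv h => isFree_range hF hα hv h
  obtain ⟨rep, hrep1, hsur, hinj⟩ := OrbitChar.exists_reps hfree (r := 3) (by rw [he, hq])
  have hsum := fun f : ↥(P : Subgroup G) → ℂ => OrbitChar.sum_reps hrep1 hsur hinj f
  choose lam hlam using fun j => OrbitChar.exists_char hfree he hq
    (fun v => Subtype.ext (hF.sq v v.2)) hrep1 hsur hinj j
  have hne : ∀ j, (rep j : G) ≠ 1 := fun j e => hrep1 j (Subtype.ext e)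
  have horb : ∀ (α : A) j, IsConj (rep j : G) ((α.1 (rep j) : (P : Subgroup G)) : G) := by
    intro α j
    obtain ⟨_, t, rfl⟩ := α
    exact isConj_iff.mpr ⟨t, rfl⟩
  have hdis : ∀ j l, IsConj (rep j : G) (rep l : G) → j = l := by
    intro j l h
    obtain ⟨t, ht, htv⟩ := hF.fusion (rep j).2 (rep l).2 h
    have e : ((1 : A), l) = (⟨_, ⟨⟨t, ht⟩, rfl⟩⟩, j) := hinj (Subtype.ext htv.symm)
    exact (congrArg Prod.snd e).symm
  have hint : ∀ (χ : Cfsg.IrrCharacter G) j, ∃ c : ℤ, (χ : G → ℂ) (rep j : G) = c := fun χ j =>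
    Fg6.NormThree.exists_int_involution χ (by rw [← pow_two]; exact hF.sq _ (rep j).2)
  choose y hy using hint
  have hval : ∀ (χ : Cfsg.IrrCharacter G) (α : A) j,
      (χ : G → ℂ) ((α.1 (rep j) : (P : Subgroup G)) : G) = y χ j := fun χ α j => by
    rw [← char_eq_of_isConj χ (horb α j), hy]
  -- positivity
  have hrow : ∀ χ ∈ Cfsg.principalBlock M G, 0 ≤ ind χ + ∑ l, y χ l ∧
      ∀ j, 4 ∣ ∑ l, y χ l + y χ j ∧
        3 * (∑ l, y χ l + y χ j) ≤ 4 * (ind χ + ∑ l, y χ l) := by
    intro χ hχ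
    set Y := (Finset.univ : Finset (P : Subgroup G)).erase 1 with hY
    have hYc : Y.card = 15 := by
      rw [hY, Finset.card_erase_of_mem (Finset.mem_univ _), Finset.card_univ,
        ← Nat.card_eq_fintype_card, hq]
    set S : ℤ := ∑ l, y χ l with hS
    have hX : ∑ w ∈ Y, (((1 : (P : Subgroup G) →* ℂˣ) w : ℂˣ) : ℂ) * (χ : G → ℂ) (w : G) =
        5 * (S : ℂ) := by
      rw [hY, hsum, hS, Int.cast_sum, Finset.mul_sum]
      refine Finset.sum_congr rfl fun j _ => ?_
      rw [Finset.sum_congr rfl fun α _ => by rw [MonoidHom.one_apply, Units.val_one, one_mul, hval],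
        Finset.sum_const, Finset.card_univ, hA5, nsmul_eq_mul]
      norm_num
    have hL : ∀ j, ∑ w ∈ Y, (lam j w : ℂ) * (χ : G → ℂ) (w : G) = (S : ℂ) - 4 * y χ j := by
      intro j
      rw [hY, hsum, Finset.sum_congr rfl fun l _ => by
        rw [Finset.sum_congr rfl fun α _ => by rw [hval], ← Finset.sum_mul, hlam j l]]
      rw [Finset.sum_congr rfl fun l _ => show (if l = j then (-3 : ℂ) else 1) * y χ l =
          (y χ l : ℂ) - (if l = j then 4 * (y χ l : ℂ) else 0) by split_ifs <;> ring,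
        Finset.sum_sub_distrib, Finset.sum_ite_eq', if_pos (Finset.mem_univ j), hS, Int.cast_sum]
    choose m1 hm1 using fun v : {v // v ∈ Y} => exists_mult hF hM v.1.2
      (fun e => Finset.ne_of_mem_erase v.2 (Subtype.ext e)) hχ 1
    have hq16 : (Nat.card P : ℂ) = 16 := by rw [hq]; norm_num
    -- the total
    have htot : ((∑ v : {v // v ∈ Y}, m1 v : ℕ) : ℤ) = 5 * (ind χ + S) := by
      have h2 := ind_eq hF hM hχ
      rw [he, hq16, ← hY, Finset.sum_sub_distrib] at h2
      have hone : ∑ w ∈ Y, (χ : G → ℂ) (w : G) = 5 * (S : ℂ) := by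
        rw [← hX]
        exact Finset.sum_congr rfl fun w _ => by simp
      rw [hone] at h2
      have h3 : ((∑ v : {v // v ∈ Y}, m1 v : ℕ) : ℂ) * 16 = 5 * (ind χ + S : ℂ) * 16 := by
        rw [Nat.cast_sum, Finset.sum_mul, ← hq16, Finset.sum_congr rfl fun v _ => (hm1 v).1,
          Finset.sum_add_distrib, Finset.sum_const, Finset.card_univ, Fintype.card_coe, hYc, hX,
          nsmul_eq_mul, Finset.sum_coe_sort Y fun v : (P : Subgroup G) => reg χ (v : G), hq16]
        push_cast at h2 ⊢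
        linear_combination -h2
      have h4 := mul_right_cancel₀ (by norm_num) h3
      have h5 : (((∑ v : {v // v ∈ Y}, m1 v : ℕ) : ℤ) : ℂ) = ((5 * (ind χ + S) : ℤ) : ℂ) := by
        rw [Int.cast_natCast, h4]; push_cast; rfl
      exact Int.cast_injective h5
    refine ⟨by have : (0 : ℤ) ≤ 5 * (ind χ + S) := htot ▸ Int.natCast_nonneg _; omega, fun j => ?_⟩
    choose mj hmj using fun v : {v // v ∈ Y} => exists_mult hF hM v.1.2
      (fun e => Finset.ne_of_mem_erase v.2 (Subtype.ext e)) hχ (lam j)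
    have hdiff : ∀ v, (4 : ℤ) * ((m1 v : ℤ) - mj v) = S + y χ j := by
      intro v
      have h : (4 : ℂ) * ((m1 v : ℂ) - mj v) = (S : ℂ) + y χ j := by
        have h1 := (hm1 v).1
        have h2 := (hmj v).1
        rw [hq16, hX] at h1
        rw [hq16, hL] at h2
        linear_combination (h1 - h2) / 4
      exact_mod_cast h
    obtain ⟨v₀⟩ : Nonempty {v // v ∈ Y} := ⟨⟨rep 0, Finset.mem_erase.mpr
      ⟨hrep1 0, Finset.mem_univ _⟩⟩⟩
    refine ⟨⟨_, (hdiff v₀).symm⟩, ?_⟩
    have hge : ∀ v, S + y χ j ≤ 4 * (m1 v : ℤ) := fun v => by have := hdiff v; omega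
    have h15 := Finset.sum_le_sum (s := (Finset.univ : Finset {v // v ∈ Y})) fun v _ => hge v
    rw [Finset.sum_const, Finset.card_univ, Fintype.card_coe, hYc, ← Finset.mul_sum,
      ← Nat.cast_sum, htot, nsmul_eq_mul] at h15
    push_cast at h15
    omega
  -- totals
  haveI := Fintype.ofFinite (Cfsg.principalBlock M G)
  have hsub : ∀ f : Cfsg.IrrCharacter G → ℂ, ∑ χ ∈ bset (Cfsg.principalBlock M G), f χ =
      ∑ χ : Cfsg.principalBlock M G, f χ.1 := fun f =>
    Finset.sum_subtype _ (fun χ => mem_bset) f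
  have horth : ∀ j l, ∑ χ : Cfsg.principalBlock M G, y χ.1 j * y χ.1 l =
      if j = l then 16 else 0 := by
    intro j l
    have h := hF.sum_mul (rep j).2 (rep l).2 (hne j) hM
    rw [hsub, Finset.sum_congr rfl fun χ _ => by rw [hy, hy]] at h
    by_cases hjl : j = l
    · subst hjl
      rw [if_pos (IsConj.refl _), hq] at h
      rw [if_pos rfl]
      exact_mod_cast h
    · rw [if_neg (fun h' => hjl (hdis j l h'))] at h
      rw [if_neg hjl]
      exact_mod_cast h
  have hax : ∀ j, ∑ χ : Cfsg.principalBlock M G, ind χ.1 * y χ.1 j = -1 := fun j => by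
    have h := sum_ind_mul hF hM (rep j).2 (hne j)
    rw [hsub, Finset.sum_congr rfl fun χ _ => by rw [hy]] at h
    exact_mod_cast h
  rw [Nat.card_eq_fintype_card (α := Cfsg.principalBlock M G)]
  refine Combi.three (a := fun χ : Cfsg.principalBlock M G => ind χ.1) (y := fun χ j => y χ.1 j)
    ⟨oneChar G, oneChar_mem_principalBlock⟩ (fun χ => ind_bound χ.1) (fun χ => (hrow χ.1 χ.2).1)
    (fun χ j => ((hrow χ.1 χ.2).2 j).1) (fun χ j => ((hrow χ.1 χ.2).2 j).2) ?_ ?_ ?_ ind_oneChar
    (fun j => ?_) ?_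
  · rw [Finset.sum_comm, Finset.sum_congr rfl fun j _ => horth j j]
    simp
  · simp only [Finset.sum_mul_sum]
    rw [Finset.sum_comm, Finset.sum_congr rfl fun j _ => Finset.sum_comm]
    simp [horth]
  · simp only [Finset.mul_sum]
    rw [Finset.sum_comm, Finset.sum_congr rfl fun j _ => hax j]
    simp
  · have h := hy (oneChar G) j
    rw [oneChar_apply] at h
    exact_mod_cast h.symm
  · intro χ hχ h0
    have hone : χ.1 ≠ oneChar G := fun e => hχ (Subtype.ext e)
    obtain ⟨h1, h2, h3⟩ := ind_twin hone h0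
    refine ⟨⟨_, PrincipalFew.conjIrr_mem χ.2⟩, fun e => h1 (congrArg Subtype.val e),
      fun e => h2 (congrArg Subtype.val e), h3, funext fun j => ?_⟩
    have h := hy (PrincipalFew.conjIrr χ.1) j
    rw [PrincipalFew.conjIrr_apply, hy χ.1 j, map_intCast] at h
    exact_mod_cast h.symm

end Cfsg.Agent.Lib.InvolutionFree.Few
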