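import Cfsg.Agent.Lib.InvolutionFree.Few
import Cfsg.Agent.Lib.InvolutionFree.Auto
import Cfsg.Agent.Lib.ElemNine.Local
import Cfsg.Agent.Lib.ElemNine.Trace
import Cfsg.Agent.Lib.FreeAbelian.Block

/-!
# A fixed subgroup, and the free counts for a principal block
-/

set_option autoImplicit false
set_option linter.style.haveILetI false
set_option linter.unusedSectionVars false

namespace Cfsg.Agent.Lib.InvolutionFree.Fixed

open Cfsg.Agent.Lib.Blocks Cfsg.Agent.Lib.Blocks.Contrib
open Cfsg.Agent.Lib.BrauerPairs.Center Cfsg.Agent.Lib.BrauerPairs.Pairs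
open Cfsg.Agent.Lib.BrauerPairs.Transport
open Cfsg.Agent.Lib.BrauerPairs.Maximal Cfsg.Agent.Lib.BrauerPairs.Bridge
open Cfsg.Agent.Lib.BrauerPairs.Fusion Cfsg.Agent.Lib.BrauerPairs.Local
open Cfsg.Agent.Lib.BrauerPairs.Principal Cfsg.Agent.Lib.BrauerPairs.SubsectionCount
open Cfsg.Agent.Lib.StarChar.AbelianPairing Cfsg.Agent.Lib.StarChar.AbelianSection
open Cfsg.Agent.Lib.StarChar.NilpotentPairing (blkAt)
open Cfsg.Agent.Lib.Characters.Basic

universe u

attribute [local instance] Ideal.Quotient.field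

local notation "C[" P "]" => Subgroup.centralizer (SetLike.coe P)

variable {M : Ideal Cfsg.AlgInt} [M.IsMaximal]

section Pair

variable {G : Type u} [Group G] [Finite G]

theorem stab_princ (P : Subgroup G) :
    stab (⟨P, princ (Res M) C[P]⟩ : Idx (Res M) G) = Subgroup.normalizer (P : Set G) :=
  le_antisymm (stab_le_normalizer _) fun _ hg => ElemNine.Local.mem_stab_princ hg

theorem autHom_range_princ (P : Subgroup G) :
    (autHom (⟨P, princ (Res M) C[P]⟩ : Idx (Res M) G)).range = P.normalizerMonoidHom.range := by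
  refine le_antisymm ?_ ?_
  · rintro _ ⟨t, rfl⟩
    exact ⟨_, rfl⟩
  · rintro _ ⟨t, rfl⟩
    exact ⟨⟨t.1, (stab_princ (M := M) P).symm ▸ t.2⟩, rfl⟩

theorem card_range (P : Subgroup G) : Nat.card P.normalizerMonoidHom.range =
    C[P].relIndex (Subgroup.normalizer (P : Set G)) := by
  rw [← Subgroup.index_ker, Subgroup.normalizerMonoidHom_ker]
  rfl

variable [Fact (Nat.Prime 2)] [CharP (Res M) 2]

/-- Free action: the counts. -/
theorem counts_princ (hM : Cfsg.IsPModular 2 M) (P : Sylow 2 G)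
    (hab : ∀ x ∈ P, ∀ y ∈ P, x * y = y * x) (hne : (P : Subgroup G) ≠ ⊥)
    (hfree : ∀ α ∈ (P : Subgroup G).normalizerMonoidHom.range, ∀ u : (P : Subgroup G), u ≠ 1 →
      α u = u → α = 1) :
    ∃ m : ℕ, Nat.card (P : Subgroup G).normalizerMonoidHom.range * m + 1 = Nat.card P ∧
      Nat.card (Cfsg.principalBlock M G) = Cfsg.blockRank 2 (Cfsg.principalBlock M G) + m ∧
      Nat.card (Cfsg.principalBlock M G) ≤
        Nat.card (P : Subgroup G).normalizerMonoidHom.range + m ∧
      (Nat.card (P : Subgroup G).normalizerMonoidHom.range ≤ 3 →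
        Nat.card (Cfsg.principalBlock M G) =
          Nat.card (P : Subgroup G).normalizerMonoidHom.range + m) := by
  haveI := Fintype.ofFinite G
  obtain ⟨m, -, h1, h2, h3, h4⟩ := FreeAbelian.Block.counts hM (top_princ (k := Res M) P)
    (pairOf_princ P.2) hab (fun t ht u hu hu1 htu => by
      have h := hfree _ ⟨⟨t, stab_le_normalizer _ ht⟩, rfl⟩ ⟨u, hu⟩
        (fun e => hu1 (congrArg Subtype.val e)) (Subtype.ext (mul_inv_eq_iff_eq_mul.mpr htu))
      refine Subgroup.mem_centralizer_iff.mpr fun v hv => ?_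
      exact (mul_inv_eq_iff_eq_mul.mp (congrArg
        (fun α : MulAut (P : Subgroup G) => ((α ⟨v, hv⟩ : (P : Subgroup G)) : G)) h)).symm) hne
  rw [autHom_range_princ, ElemNine.Local.toSet_princ] at *
  exact ⟨m, h1, h2, h3, h4⟩

end Pair

/-- A fixed subgroup, outside which the automizer acts freely. -/
structure Fix {G : Type u} [Group G] (q f e : ℕ) (P : Sylow 2 G) (F : Subgroup G) : Prop where
  comm : ∀ x ∈ P, ∀ y ∈ P, x * y = y * x
  card : Nat.card P = q
  le : F ≤ (P : Subgroup G)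
  cardF : Nat.card F = f
  sq : ∀ x ∈ P, x ^ 2 ∈ F
  fix : ∀ t ∈ Subgroup.normalizer ((P : Subgroup G) : Set G), ∀ v ∈ F, t * v * t⁻¹ = v
  index : C[(P : Subgroup G)].relIndex (Subgroup.normalizer ((P : Subgroup G) : Set G)) = e

theorem Fix.subtype {G : Type u} [Group G] [Finite G] {q f e : ℕ} {P : Sylow 2 G} {F : Subgroup G}
    (h : Fix q f e P F) {v : G} (hv : v ∈ F)
    (hle : (P : Subgroup G) ≤ C[Subgroup.zpowers v]) :
    Fix q f e (P.subtype hle) (F.subgroupOf C[Subgroup.zpowers v]) := by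
  set H := C[Subgroup.zpowers v]
  have hNH : Subgroup.normalizer ((P : Subgroup G) : Set G) ≤ H := fun t ht => by
    show t ∈ Subgroup.centralizer ((Subgroup.zpowers v : Subgroup G) : Set G)
    rw [BrauerMap.PrincipalSection.centralizer_zpowers_eq, Subgroup.mem_centralizer_singleton_iff]
    exact mul_inv_eq_iff_eq_mul.mp (h.fix t ht v hv)
  refine ⟨fun x hx y hy => Subtype.ext (h.comm _ hx _ hy),
    (Nat.card_congr (Subgroup.subgroupOfEquivOfLe hle).toEquiv).trans h.card, fun x hx => h.le hx,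
    (Nat.card_congr (Subgroup.subgroupOfEquivOfLe (h.le.trans hle)).toEquiv).trans h.cardF,
    fun x hx => h.sq _ hx,
    fun t ht w hw => Subtype.ext (h.fix t (ElemNine.Local.mem_normalizer_of_subtype hle ht) w hw), ?_⟩
  have e1 : C[((P.subtype hle : Sylow 2 H) : Subgroup H)] = C[(P : Subgroup G)].subgroupOf H := by
    ext z
    simp only [Subgroup.mem_subgroupOf, Subgroup.mem_centralizer_iff]
    exact ⟨fun hz w hw => congrArg Subtype.val (hz ⟨w, hle hw⟩ hw),
      fun hz w hw => Subtype.ext (hz w hw)⟩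
  have e2 : Subgroup.normalizer (((P.subtype hle : Sylow 2 H) : Subgroup H) : Set H) =
      (Subgroup.normalizer ((P : Subgroup G) : Set G)).subgroupOf H := by
    ext z
    refine ⟨fun hz => ElemNine.Local.mem_normalizer_of_subtype hle hz, fun hz => ?_⟩
    rw [Subgroup.mem_normalizer_iff]
    intro y
    exact Subgroup.mem_normalizer_iff.mp hz y
  rw [e1, e2, Subgroup.relIndex_subgroupOf hNH, h.index]

variable [Fact (Nat.Prime 2)] [CharP (Res M) 2]

/-- The base: a central fixed subgroup. -/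
theorem rank_central (hM : Cfsg.IsPModular 2 M) {G : Type u} [Group G] [Finite G] {q f e : ℕ}
    {P : Sylow 2 G} {F : Subgroup G} (h : Fix q f e P F) (he : e = 3 ∧ q = 4 * f ∨ e = 7 ∧ q = 8 * f)
    (hcen : F ≤ Subgroup.center G) : Cfsg.blockRank 2 (Cfsg.principalBlock M G) = e := by
  classical
  haveI : F.Normal := ⟨fun n hn g => by
    rw [Subgroup.mem_center_iff.mp (hcen hn) g, mul_inv_cancel_right]; exact hn⟩
  have hsup : F ⊔ C[F] = ⊤ := top_le_iff.mp (le_trans (fun g _ =>
    Subgroup.mem_centralizer_iff.mpr fun n hn => (Subgroup.mem_center_iff.mp (hcen hn) g).symm)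
      le_sup_right)
  rw [Cfsg.Agent.S4571.result 2 M hM F (P.2.to_le h.le) hsup]
  set π := QuotientGroup.mk' F with hπdef
  have hπ : Function.Surjective π := QuotientGroup.mk'_surjective F
  let P' := P.mapSurjective hπ
  have hcoe : (P' : Subgroup (G ⧸ F)) = (P : Subgroup G).map π := Sylow.coe_mapSurjective hπ P
  have hcardP' : Nat.card P' * f = q := by
    show Nat.card (P' : Subgroup (G ⧸ F)) * f = q
    rw [hcoe]
    set g : (P : Subgroup G) →* G ⧸ F := π.comp (P : Subgroup G).subtype with hg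
    have hrange : g.range = (P : Subgroup G).map π := by
      rw [hg, MonoidHom.range_comp, Subgroup.range_subtype]
    have hker : g.ker = F.subgroupOf (P : Subgroup G) := by
      ext y
      rw [MonoidHom.mem_ker, Subgroup.mem_subgroupOf]
      exact QuotientGroup.eq_one_iff _
    rw [← hrange, ← Subgroup.index_ker, hker, ← h.cardF, mul_comm,
      ← Nat.card_congr (Subgroup.subgroupOfEquivOfLe h.le).toEquiv, Subgroup.card_mul_index, h.card]
  have hsq' : ∀ y ∈ P', y ^ 2 = 1 := by
    intro y hy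
    obtain ⟨z, hz, rfl⟩ := (hcoe ▸ hy : y ∈ (P : Subgroup G).map π)
    rw [← map_pow]
    exact (QuotientGroup.eq_one_iff _).mpr (h.sq z hz)
  -- normalizers correspond
  have hnorm : ∀ t ∈ Subgroup.normalizer ((P : Subgroup G) : Set G),
      π t ∈ Subgroup.normalizer ((P' : Subgroup (G ⧸ F)) : Set (G ⧸ F)) := by
    intro t ht
    rw [Subgroup.mem_normalizer_iff]
    intro y
    rw [hcoe]
    constructor
    · rintro ⟨z, hz, rfl⟩
      exact ⟨t * z * t⁻¹, (Subgroup.mem_normalizer_iff.mp ht z).mp hz, by simp⟩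
    · rintro ⟨z, hz, he⟩
      refine ⟨t⁻¹ * z * t, (Subgroup.mem_normalizer_iff.mp ht _).mpr ?_, ?_⟩
      · have : z ∈ (P : Subgroup G) := hz
        simpa [mul_assoc] using this
      · rw [map_mul, map_mul, map_inv, he]; group
  -- a moving element
  obtain ⟨t, ht, x, hx, hne⟩ : ∃ t ∈ Subgroup.normalizer ((P : Subgroup G) : Set G),
      ∃ x ∈ P, π t * π x * (π t)⁻¹ ≠ π x := by
    by_contra hcon
    push Not at hcon
    have h1 : ∀ α ∈ (P : Subgroup G).normalizerMonoidHom.range, α = 1 := by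
      rintro _ ⟨t, rfl⟩
      refine MulEquiv.ext fun x => ?_
      set α := (P : Subgroup G).normalizerMonoidHom t
      have hz : (t : G) * (x : G) * (t : G)⁻¹ * (x : G)⁻¹ ∈ F := by
        refine (QuotientGroup.eq_one_iff _).mp ?_
        show π _ = 1
        rw [map_mul, map_mul, map_mul, map_inv, map_inv, hcon t t.2 x x.2, mul_inv_cancel]
      set z := (t : G) * (x : G) * (t : G)⁻¹ * (x : G)⁻¹
      have hαx : α x = ⟨z, h.le hz⟩ * x := Subtype.ext (by
        show (t : G) * (x : G) * (t : G)⁻¹ = z * (x : G)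
        simp [z, mul_assoc])
      have hαz : α ⟨z, h.le hz⟩ = ⟨z, h.le hz⟩ := Subtype.ext (h.fix t t.2 z hz)
      have hpow : ∀ k : ℕ, (α ^ k) x = (⟨z, h.le hz⟩ : (P : Subgroup G)) ^ k * x := fun k => by
        induction k with
        | zero => simp
        | succ k ih => rw [pow_succ', MulAut.mul_apply, ih, map_mul, map_pow, hαz, hαx, ← mul_assoc,
            ← pow_succ]
      have hαe : α ^ e = 1 := by
        have hc := pow_card_eq_one' (x := (⟨α, t, rfl⟩ : (P : Subgroup G).normalizerMonoidHom.range))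
        rw [card_range, h.index] at hc
        exact congrArg Subtype.val hc
      have hze := hpow e
      rw [hαe, MulAut.one_apply] at hze
      have hze' : (⟨z, h.le hz⟩ : (P : Subgroup G)) ^ e = 1 := mul_eq_right.mp hze.symm
      obtain ⟨k, hk⟩ := IsPGroup.iff_orderOf.mp P.2 (⟨z, h.le hz⟩ : (P : Subgroup G))
      have hcop : Nat.Coprime e (2 ^ k) := by
        refine Nat.Coprime.pow_right k ?_
        rcases he with ⟨rfl, -⟩ | ⟨rfl, -⟩ <;> norm_num
      have hz1 := orderOf_eq_one_iff.mp (Nat.eq_one_of_dvd_coprimes hcop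
        (orderOf_dvd_of_pow_eq_one hze') (dvd_of_eq hk))
      rw [MulAut.one_apply, hαx, hz1, one_mul]
    have h2 : Nat.card (P : Subgroup G).normalizerMonoidHom.range = 1 := by
      rw [Nat.card_eq_one_iff_unique]
      exact ⟨⟨fun a b => Subtype.ext ((h1 a a.2).trans (h1 b b.2).symm)⟩, ⟨1⟩⟩
    rw [card_range, h.index] at h2
    omega
  have hf : 0 < f := h.cardF ▸ Nat.card_pos
  rcases he with ⟨rfl, hq⟩ | ⟨rfl, hq⟩
  · exact ElemNine.Local.klein_rank hM P'
      (Nat.eq_of_mul_eq_mul_right hf (hcardP'.trans hq)) hsq'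
      (hnorm t ht) (by show π x ∈ (P' : Subgroup (G ⧸ F)); rw [hcoe]; exact ⟨x, hx, rfl⟩) hne
  have hP8 : Nat.card P' = 8 := Nat.eq_of_mul_eq_mul_right hf (hcardP'.trans hq)
  -- the automizer of the quotient
  set A := (P' : Subgroup (G ⧸ F)).normalizerMonoidHom.range with hA
  have hA7 : Nat.card A = 7 := by
    let φ : Subgroup.normalizer ((P : Subgroup G) : Set G) →* A :=
      ((P' : Subgroup (G ⧸ F)).normalizerMonoidHom.rangeRestrict).comp
        ((π.comp (Subgroup.normalizer ((P : Subgroup G) : Set G)).subtype).codRestrict _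
          fun s => hnorm s s.2)
    have hsur : Function.Surjective φ := by
      rintro ⟨_, s, rfl⟩
      obtain ⟨s₀, hs₀⟩ := hπ s.1
      have hs₀N : s₀ ∈ Subgroup.normalizer ((P : Subgroup G) : Set G) := by
        have hpre : ((P' : Subgroup (G ⧸ F))).comap π = (P : Subgroup G) := by
          rw [hcoe, Subgroup.comap_map_eq_self]
          rw [hπdef, QuotientGroup.ker_mk']
          exact h.le
        rw [Subgroup.mem_normalizer_iff]
        intro y
        rw [← hpre, Subgroup.mem_comap, Subgroup.mem_comap, map_mul, map_mul, map_inv, hs₀]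
        exact Subgroup.mem_normalizer_iff.mp s.2 (π y)
      refine ⟨⟨s₀, hs₀N⟩, ?_⟩
      refine Subtype.ext (congrArg (P' : Subgroup (G ⧸ F)).normalizerMonoidHom ?_)
      exact Subtype.ext hs₀
    have hdvd : Nat.card A ∣ 7 := by
      rw [← h.index, Subgroup.relIndex, ← Subgroup.card_top (G := A),
        ← MonoidHom.range_eq_top.mpr hsur, ← Subgroup.index_ker]
      refine Subgroup.index_dvd_of_le fun s hs => ?_
      refine Subtype.ext (MulEquiv.ext fun y => Subtype.ext ?_)
      obtain ⟨z, hz, hzy⟩ := (hcoe ▸ y.2 : (y : G ⧸ F) ∈ (P : Subgroup G).map π)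
      show π (s : G) * (y : G ⧸ F) * (π (s : G))⁻¹ = (y : G ⧸ F)
      rw [← hzy, ← map_inv, ← map_mul, ← map_mul,
        ← Subgroup.mem_centralizer_iff.mp (Subgroup.mem_subgroupOf.mp hs) z hz, mul_inv_cancel_right]
    refine ((Nat.dvd_prime (by norm_num : (7).Prime)).mp hdvd).resolve_left fun h1 => hne ?_
    haveI := (Nat.card_eq_one_iff_unique.mp h1).1
    have e := Subsingleton.elim (⟨_, ⟨⟨π t, hnorm t ht⟩, rfl⟩⟩ : A) 1
    have hxP' : π x ∈ (P' : Subgroup (G ⧸ F)) := by rw [hcoe]; exact ⟨x, hx, rfl⟩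
    exact congrArg (fun α : A => ((α.1 ⟨π x, hxP'⟩ : (P' : Subgroup (G ⧸ F))) : G ⧸ F)) e
  have hab' := ElemNine.Local.commute_of_sq (P := (P' : Subgroup (G ⧸ F))) hsq'
  letI : CommGroup (P' : Subgroup (G ⧸ F)) :=
    { (inferInstance : Group (P' : Subgroup (G ⧸ F))) with
      mul_comm := fun a b => Subtype.ext (hab' a a.2 b b.2) }
  have hfree : Auto.IsFree A := by
    obtain ⟨K, -, hKf, i, hi, hc, hm⟩ := Auto.exists_fixed (A := A)
      (show Nat.card (P' : Subgroup (G ⧸ F)) = 2 ^ 3 by rw [show (2 : ℕ) ^ 3 = 8 by norm_num]; exact hP8)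
      (p := 7) (by norm_num) hA7
    have hi0 : i = 0 := by interval_cases i <;> simp_all
    subst hi0
    exact Auto.isFree_of_card_fix hKf hc
  obtain ⟨σ, hσ, -, -, hσo⟩ := Auto.exists_order (A := A) 7 (by norm_num) (hA7 ▸ dvd_refl _)
  haveI := Fintype.ofFinite (G ⧸ F)
  have hF' : Section.Free P' := Few.free_of_isFree P' hsq' hfree
  have hk := Few.card_transitive hF' hM hσ (hσo.trans hA7.symm)
    (by rw [← hA, hA7, hP8])
  obtain ⟨m, h1, h2, -, -⟩ := counts_princ hM P' hab'
    (fun e => by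
      have : Nat.card (P' : Subgroup (G ⧸ F)) = 8 := hP8
      rw [e, Subgroup.card_bot] at this
      omega) hfree
  rw [← hA, hA7, hP8] at h1
  rw [hk, hP8] at h2
  omega

/-- **The rank with a fixed subgroup.** -/
theorem rank_fixed (hM : Cfsg.IsPModular 2 M) {G : Type u} [Group G] [Finite G] {q f e : ℕ}
    {P : Sylow 2 G} {F : Subgroup G} (h : Fix q f e P F)
    (he : e = 3 ∧ q = 4 * f ∨ e = 7 ∧ q = 8 * f) :
    Cfsg.blockRank 2 (Cfsg.principalBlock M G) = e := by
  suffices ∀ (n : ℕ) (H : Type u) [Group H] [Finite H] (P : Sylow 2 H) (F : Subgroup H),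
      Nat.card H = n → Fix q f e P F → Cfsg.blockRank 2 (Cfsg.principalBlock M H) = e from
    this _ G P F rfl h
  intro n
  induction n using Nat.strong_induction_on with
  | _ n ih =>
    intro H _ _ P F hn h
    by_cases hcen : F ≤ Subgroup.center H
    · exact rank_central hM h he hcen
    obtain ⟨v, hv, hvc⟩ := SetLike.not_le_iff_exists.mp hcen
    have hle := le_centralizer_zpowers h.comm (h.le hv)
    rw [← ElemNine.Local.step hM P h.comm (h.le hv) fun t ht => h.fix t ht v hv]
    refine ih _ (hn ▸ lt_of_le_of_ne (Subgroup.card_le_card_group _) fun e => hvc ?_) _ _ _ rfl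
      (h.subtype hv hle)
    refine Subgroup.mem_center_iff.mpr fun g => ?_
    exact (Subgroup.mem_centralizer_iff.mp (Subgroup.eq_top_of_card_eq _ e ▸ Subgroup.mem_top g) v
      (Subgroup.mem_zpowers v)).symm

/-- **The number of characters with a fixed subgroup.** -/
theorem card_fixed (hM : Cfsg.IsPModular 2 M) {G : Type u} [Group G] [Finite G] {q f e : ℕ}
    {P : Sylow 2 G} {F : Subgroup G} (h : Fix q f e P F)
    (he : e = 3 ∧ q = 4 * f ∨ e = 7 ∧ q = 8 * f)
    (hfree : ∀ α ∈ (P : Subgroup G).normalizerMonoidHom.range, ∀ u : (P : Subgroup G),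
      (u : G) ∉ F → α u = u → α = 1) :
    (e : ℤ) * Nat.card (Cfsg.principalBlock M G) = (f : ℤ) * e * e + ((q : ℤ) - f) := by
  classical
  haveI := Fintype.ofFinite G
  haveI := Fintype.ofFinite (Cfsg.IrrCharacter G)
  set b : Idx (Res M) G := ⟨(P : Subgroup G), princ (Res M) C[(P : Subgroup G)]⟩ with hbdef
  have hb : Top 2 b := top_princ P
  set ψ : Blk (Res M) G := princ (Res M) G with hψdef
  have hψ : PairOf 2 ψ b := pairOf_princ P.2
  haveI := Fintype.ofFinite b.1
  have hrange : (autHom b).range = (P : Subgroup G).normalizerMonoidHom.range :=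
    autHom_range_princ _
  have hA : Nat.card (autHom b).range = e := by rw [hrange, card_range, h.index]
  have hD : Nat.card b.1 = q := h.card
  have htoSet : toSet ψ = Cfsg.principalBlock M G := ElemNine.Local.toSet_princ
  have hl := rank_fixed hM h he
  have hfixA : ∀ α ∈ (autHom b).range, ∀ u : b.1, (u : G) ∈ F → α u = u := by
    rintro _ ⟨t, rfl⟩ u hu
    refine Subtype.ext ?_
    rw [autHom_apply]
    exact h.fix t (stab_le_normalizer _ t.2) u hu
  have h1 : ∑ χ ∈ bset (toSet ψ), ∑ u : b.1, gram hb χ χ u =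
      (e : ℂ) * q * Nat.card (toSet ψ) := by
    rw [Finset.sum_congr rfl fun χ hχ => by
      rw [sum_gram_eq hb hψ h.comm hM (mem_toSet.mp (mem_bset.mp hχ)) χ, classInner_self_irr,
        mul_one, hA, hD], Finset.sum_const, card_bset, nsmul_eq_mul]
    ring
  rw [Finset.sum_comm, ← Finset.sum_filter_add_sum_filter_not Finset.univ
    (fun u : b.1 => (u : G) ∈ F)] at h1
  have hin : ∀ u ∈ (Finset.univ : Finset b.1).filter (fun u : b.1 => (u : G) ∈ F),
      ∑ χ ∈ bset (toSet ψ), gram hb χ χ u = (e : ℂ) * q * e := by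
    intro u hu
    have huF : (u : G) ∈ F := (Finset.mem_filter.mp hu).2
    rw [ElemNine.Trace.sum_gram_rank hM hb hψ u, hA, hD, ElemNine.Local.blkAt_princ P hb.1 u,
      ElemNine.Local.toSet_princ,
      ElemNine.Local.step hM P h.comm u.2 (fun t ht => h.fix t ht u huF), hl]
    have h1 : Nat.card {w : b.1 // Rel b u w} = 1 := by
      rw [Nat.card_eq_one_iff_unique]
      exact ⟨⟨fun a a' => Subtype.ext (by
        obtain ⟨α, hα, ha⟩ := a.2
        obtain ⟨β, hβ, ha'⟩ := a'.2
        rw [← ha, ← ha', hfixA α hα u huF, hfixA β hβ u huF])⟩, ⟨⟨u, rel_refl u⟩⟩⟩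
    rw [h1, Nat.cast_one, div_one]
  have hout : ∀ u ∈ (Finset.univ : Finset b.1).filter (fun u : b.1 => ¬ (u : G) ∈ F),
      ∑ χ ∈ bset (toSet ψ), gram hb χ χ u = (q : ℂ) := by
    intro u hu
    rw [sum_gram hb hψ h.comm hM u fun α hα hfix =>
      hfree α (hrange ▸ hα) u (Finset.mem_filter.mp hu).2 hfix, hD]
  rw [Finset.sum_congr rfl hin, Finset.sum_congr rfl hout, Finset.sum_const, Finset.sum_const,
    htoSet, nsmul_eq_mul, nsmul_eq_mul] at h1
  have hcF : ((Finset.univ : Finset b.1).filter fun u : b.1 => (u : G) ∈ F).card = f := by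
    rw [← Fintype.card_subtype, ← Nat.card_eq_fintype_card, ← h.cardF]
    exact Nat.card_congr (Subgroup.subgroupOfEquivOfLe h.le).toEquiv
  have hsplit := Finset.card_filter_add_card_filter_not (s := (Finset.univ : Finset b.1))
    (fun u : b.1 => (u : G) ∈ F)
  rw [hcF, Finset.card_univ, ← Nat.card_eq_fintype_card, hD] at hsplit
  have hq0 : (q : ℂ) ≠ 0 := by
    rw [← h.card]; exact Nat.cast_ne_zero.mpr Nat.card_pos.ne'
  have h2 : (e : ℂ) * Nat.card (Cfsg.principalBlock M G) =
      (f : ℂ) * e * e + ((q : ℂ) - f) := by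
    have hs : ((f : ℂ) + (((Finset.univ : Finset b.1).filter fun u : b.1 => ¬ (u : G) ∈ F).card : ℂ)) = q := by
      exact_mod_cast hsplit
    rw [hcF] at h1
    apply mul_left_cancel₀ hq0
    linear_combination -h1 + (q : ℂ) * hs
  exact_mod_cast h2

end Cfsg.Agent.Lib.InvolutionFree.Fixed
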