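import Mathlib.RingTheory.Polynomial.IsIntegral
import Mathlib.LinearAlgebra.Matrix.Charpoly.Coeff
import Mathlib.LinearAlgebra.Charpoly.Basic
import Cfsg.Agent.Lib.Blocks.Basic
import Cfsg.Agent.Lib.Blocks.Contrib
import Cfsg.Agent.Lib.Characters.Complete

/-!
# Invariant matrices on a transitive set cut by a block

An integral invariant matrix satisfies, on the part of a block, a monic integral equation of degree
at most the number of fixed vectors of a point stabilizer in the characters of the block.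
-/

set_option autoImplicit false
set_option linter.style.haveILetI false
set_option linter.unusedSectionVars false

namespace Cfsg.Agent.Lib.InvolutionFree.Orbital

open MonoidAlgebra Polynomial
open Cfsg.Agent.Lib.Blocks Cfsg.Agent.Lib.Blocks.Contrib Cfsg.Agent.Lib.Characters.Basic

universe u v w

variable {G : Type u} [Group G] [Fintype G] {X : Type v} [Fintype X] [DecidableEq X]
  [MulAction G X]

/-- Invariance. -/
def Inv {K : Type w} (A : Matrix X X K) : Prop := ∀ (g : G) (y z : X), A (g • y) (g • z) = A y z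

theorem inv_one {K : Type w} [Zero K] [One K] : Inv (G := G) (1 : Matrix X X K) := fun g y z => by
  simp [Matrix.one_apply]

theorem Inv.mul {K : Type w} [CommRing K] {A B : Matrix X X K} (hA : Inv (G := G) A)
    (hB : Inv (G := G) B) : Inv (G := G) (A * B) := fun g y z => by
  simp only [Matrix.mul_apply]
  exact (Fintype.sum_equiv (MulAction.toPerm g) _ _ fun x => by
    simp [hA g y x, hB g x z]).symm

theorem Inv.map {K L : Type*} {A : Matrix X X K} (hA : Inv (G := G) A) (f : K → L) :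
    Inv (G := G) (A.map f) := fun g y z => congrArg f (hA g y z)

theorem Inv.aeval {K : Type w} [CommRing K] {A : Matrix X X K} (hA : Inv (G := G) A) (p : K[X]) :
    Inv (G := G) (Polynomial.aeval A p) := by
  have hpow : ∀ i : ℕ, Inv (G := G) (A ^ i) := fun i => by
    induction i with
    | zero => rw [pow_zero]; exact inv_one
    | succ i ih => rw [pow_succ]; exact ih.mul hA
  intro g y z
  simp only [aeval_eq_sum_range, Matrix.sum_apply, Matrix.smul_apply, hpow _ g y z]

variable (x₀ : X) [MulAction.IsPretransitive G X]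

theorem sum_orbit {V : Type*} [AddCommMonoid V] (F : X → V) :
    ∑ g : G, F (g • x₀) = Nat.card (MulAction.stabilizer G x₀) • ∑ x, F x := by
  classical
  rw [← Finset.sum_fiberwise_of_maps_to (g := fun g : G => g • x₀) (t := Finset.univ)
    (fun g _ => Finset.mem_univ _), Finset.smul_sum]
  refine Finset.sum_congr rfl fun x _ => ?_
  rw [Finset.sum_congr rfl fun g hg => by rw [(Finset.mem_filter.mp hg).2], Finset.sum_const]
  congr 1
  obtain ⟨a, ha⟩ := MulAction.exists_smul_eq G x₀ x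
  rw [← Nat.card_eq_finsetCard]
  refine Nat.card_congr ((Equiv.mulLeft a⁻¹).subtypeEquiv fun g => ?_)
  simp [MulAction.mem_stabilizer_iff, mul_smul, inv_smul_eq_iff, ha]

variable {n : ℕ} (ρ : Representation ℂ G (Fin n → ℂ))

/-- The endomorphism of a representation attached to an invariant matrix. -/
noncomputable def phi (A : Matrix X X ℂ) : Module.End ℂ (Fin n → ℂ) :=
  (Nat.card (MulAction.stabilizer G x₀) : ℂ)⁻¹ • ∑ g : G, A x₀ (g • x₀) • ρ g

theorem phi_mul {A B : Matrix X X ℂ} (hB : Inv (G := G) B) :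
    phi x₀ ρ (A * B) = phi x₀ ρ A * phi x₀ ρ B := by
  have hN : (Nat.card (MulAction.stabilizer G x₀) : ℂ) ≠ 0 := Nat.cast_ne_zero.mpr Nat.card_pos.ne'
  simp only [phi, smul_mul_smul_comm, Finset.sum_mul_sum, ← map_mul]
  have e : ∀ g : G, ∑ h : G, (A x₀ (g • x₀) * B x₀ (h • x₀)) • ρ (g * h) =
      ∑ k : G, (A x₀ (g • x₀) * B (g • x₀) (k • x₀)) • ρ k := fun g =>
    Fintype.sum_equiv (Equiv.mulLeft g) _ _ fun h => by
      simp [mul_smul, hB g x₀ (h • x₀)]
  rw [Finset.sum_congr rfl fun g _ => e g, Finset.sum_comm]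
  simp only [← Finset.sum_smul, Finset.smul_sum, smul_smul]
  refine Finset.sum_congr rfl fun k _ => ?_
  rw [sum_orbit x₀ (fun x => A x₀ x * B x (k • x₀)), Matrix.mul_apply, nsmul_eq_mul]
  congr 1
  field_simp

theorem phi_one : phi x₀ ρ 1 = (Nat.card (MulAction.stabilizer G x₀) : ℂ)⁻¹ •
    ∑ c : MulAction.stabilizer G x₀, ρ c := by
  classical
  rw [phi]
  congr 1
  simp only [Matrix.one_apply, ite_smul, one_smul, zero_smul]
  rw [← Finset.sum_filter]
  exact (Finset.sum_subtype _ (fun g => by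
    simp [MulAction.mem_stabilizer_iff, eq_comm]) (fun g => ρ g))

theorem phi_zero : phi x₀ ρ 0 = 0 := by simp [phi]

theorem phi_sum {ι : Type*} (s : Finset ι) (a : ι → ℂ) (F : ι → Matrix X X ℂ) :
    phi x₀ ρ (∑ i ∈ s, a i • F i) = ∑ i ∈ s, a i • phi x₀ ρ (F i) := by
  simp only [phi, Matrix.sum_apply, Matrix.smul_apply, Finset.sum_smul, smul_eq_mul]
  rw [Finset.sum_comm, Finset.smul_sum]
  refine Finset.sum_congr rfl fun i _ => ?_
  rw [smul_comm, Finset.smul_sum (r := a i)]
  exact congrArg _ (Finset.sum_congr rfl fun g _ => by rw [smul_smul])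

/-- Restricted to the fixed vectors it is a polynomial in the image. -/
theorem phi_aeval {A : Matrix X X ℂ} (hA : Inv (G := G) A) (p : ℂ[X]) :
    phi x₀ ρ (Polynomial.aeval A p) = Polynomial.aeval (phi x₀ ρ A) p * phi x₀ ρ 1 := by
  have hpow : ∀ i : ℕ, phi x₀ ρ (A ^ i) = phi x₀ ρ A ^ i * phi x₀ ρ 1 := fun i => by
    induction i with
    | zero => rw [pow_zero, pow_zero, one_mul]
    | succ i ih =>
      rw [pow_succ', phi_mul x₀ ρ (A := A) (B := A ^ i) ?_, ih, pow_succ', mul_assoc]
      induction i with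
      | zero => rw [pow_zero]; exact inv_one
      | succ j _ =>
        have := hA.aeval (Polynomial.X ^ (j + 1))
        rwa [map_pow, Polynomial.aeval_X] at this
  rw [Polynomial.aeval_eq_sum_range, phi_sum, Polynomial.aeval_eq_sum_range, Finset.sum_mul]
  exact Finset.sum_congr rfl fun i _ => by rw [hpow, smul_mul_assoc]

theorem trace_phi_one {χ : Cfsg.IrrCharacter G} (hχ : ρ.character = (χ : G → ℂ)) :
    LinearMap.trace ℂ _ (phi x₀ ρ 1) = (Nat.card (MulAction.stabilizer G x₀) : ℂ)⁻¹ *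
      ∑ c : MulAction.stabilizer G x₀, (χ : G → ℂ) c := by
  rw [phi_one, map_smul, map_sum, smul_eq_mul, ← hχ]
  rfl

variable (X) in
/-- The matrix of a block idempotent. -/
noncomputable def blockMat (B : Set (Cfsg.IrrCharacter G)) : Matrix X X ℂ := by
  classical
  exact fun y z => ∑ g : G, if g • y = z then Cfsg.blockCoeff B g else 0

theorem blockMat_inv (B : Set (Cfsg.IrrCharacter G)) : Inv (G := G) (blockMat X B) := by
  classical
  intro a y z
  simp only [blockMat]
  refine Fintype.sum_equiv (MulAut.conj a⁻¹).toEquiv _ _ fun g => ?_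
  have e : (MulAut.conj a⁻¹).toEquiv g = a⁻¹ * g * a := by simp
  rw [e, Blocks.blockCoeff_eq_of_isConj B (h := a⁻¹ * g * a) (g := g) (isConj_iff.mpr ⟨a⁻¹, by group⟩)]
  refine if_congr ?_ rfl rfl
  rw [mul_smul, mul_smul, inv_smul_eq_iff]

theorem phi_blockMat (B : Set (Cfsg.IrrCharacter G)) :
    phi x₀ ρ (blockMat X B) = ρ.asAlgebraHom (idem B : MonoidAlgebra ℂ G) * phi x₀ ρ 1 := by
  classical
  have hz : ρ.asAlgebraHom (idem B : MonoidAlgebra ℂ G) = ∑ h, Cfsg.blockCoeff B h • ρ h := by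
    conv_lhs => rw [← MonoidAlgebra.sum_coeff_single (idem B : MonoidAlgebra ℂ G)]
    rw [map_finsuppSum, Finsupp.sum_fintype _ _ fun g => by simp]
    exact Finset.sum_congr rfl fun g _ => by rw [Representation.asAlgebraHom_single, coeff_idem]
  rw [hz, phi_one, phi, mul_smul_comm, Finset.sum_mul_sum]
  congr 1
  simp only [blockMat, Finset.sum_smul, ite_smul, zero_smul]
  rw [Finset.sum_comm]
  refine Finset.sum_congr rfl fun h _ => ?_
  rw [← Finset.sum_filter]
  refine (Finset.sum_bij (fun (c : MulAction.stabilizer G x₀) _ => h * c) (fun c _ => ?_)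
    (fun a _ b _ e => Subtype.ext (mul_left_cancel e)) (fun g hg => ?_) fun c _ => ?_).symm
  · simp [mul_smul, MulAction.mem_stabilizer_iff.mp c.2]
  · refine ⟨⟨h⁻¹ * g, ?_⟩, Finset.mem_univ _, by simp⟩
    rw [MulAction.mem_stabilizer_iff, mul_smul, ← (Finset.mem_filter.mp hg).2, inv_smul_smul]
  · rw [smul_mul_assoc, ← map_mul]

/-- Killed by every irreducible representation: zero. -/
theorem eq_zero_of_phi {A : Matrix X X ℂ} (hA : Inv (G := G) A)
    (h : ∀ χ : Cfsg.IrrCharacter G, ∃ (n : ℕ) (ρ : Representation ℂ G (Fin n → ℂ)),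
      ρ.character = (χ : G → ℂ) ∧ phi x₀ ρ A = 0) : A = 0 := by
  classical
  haveI := Fintype.ofFinite (Cfsg.IrrCharacter G)
  have hN : (Nat.card (MulAction.stabilizer G x₀) : ℂ) ≠ 0 := Nat.cast_ne_zero.mpr Nat.card_pos.ne'
  have hk : ∀ k : G, A x₀ (k • x₀) = 0 := by
    intro k
    have h0 : ∀ χ : Cfsg.IrrCharacter G,
        ∑ g : G, A x₀ (g • x₀) * (χ : G → ℂ) (g * k⁻¹) = 0 := by
      intro χ
      obtain ⟨n, ρ, hρ, h0⟩ := h χ
      rw [phi, smul_eq_zero, inv_eq_zero] at h0
      have h1 := congrArg (fun f => LinearMap.trace ℂ _ (f * ρ k⁻¹)) (h0.resolve_left hN)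
      simp only [Finset.sum_mul, smul_mul_assoc, ← map_mul, map_sum, map_smul, zero_mul, map_zero,
        smul_eq_mul] at h1
      rw [← hρ]
      exact h1
    have h2 : ∑ χ : Cfsg.IrrCharacter G,
        (χ : G → ℂ) 1 * ∑ g : G, A x₀ (g • x₀) * (χ : G → ℂ) (g * k⁻¹) = 0 :=
      Finset.sum_eq_zero fun χ _ => by rw [h0, mul_zero]
    simp only [Finset.mul_sum] at h2
    rw [Finset.sum_comm] at h2
    simp only [mul_left_comm _ (A x₀ _), ← Finset.mul_sum, Characters.Complete.sum_degree_mul_apply,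
      mul_ite, mul_zero, mul_inv_eq_one, Finset.sum_ite_eq', Finset.mem_univ, if_true,
      mul_eq_zero] at h2
    exact h2.resolve_right (Nat.cast_ne_zero.mpr Nat.card_pos.ne')
  ext y z
  obtain ⟨a, rfl⟩ := MulAction.exists_smul_eq G x₀ y
  obtain ⟨b, hb⟩ := MulAction.exists_smul_eq G x₀ (a⁻¹ • z)
  rw [← hA a⁻¹ (a • x₀) z, inv_smul_smul, ← hb, hk]
  rfl

/-- **The degree bound.** -/
theorem exists_annihilator (T : Matrix X X ℤ) (hT : Inv (G := G) T)
    (B : Set (Cfsg.IrrCharacter G)) (m : Cfsg.IrrCharacter G → ℕ)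
    (hm : ∀ χ ∈ B, (m χ : ℂ) * Nat.card (MulAction.stabilizer G x₀) =
      ∑ c : MulAction.stabilizer G x₀, (χ : G → ℂ) c) :
    ∃ p : ℂ[X], p.Monic ∧ p.natDegree ≤ ∑ χ ∈ bset B, m χ ∧ (∀ i, IsIntegral ℤ (p.coeff i)) ∧
      Polynomial.aeval (T.map (Int.cast : ℤ → ℂ)) p * blockMat X B = 0 := by
  classical
  set TC : Matrix X X ℂ := T.map (Int.cast : ℤ → ℂ) with hTC
  have hTCi : Inv (G := G) TC := hT.map _
  set P0 := T.charpoly with hP0
  have hP0m : P0.Monic := T.charpoly_monic
  have hP0T : Polynomial.aeval TC (P0.map (algebraMap ℤ ℂ)) = 0 := by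
    have e : P0.map (algebraMap ℤ ℂ) = TC.charpoly := (Matrix.charpoly_map T (algebraMap ℤ ℂ)).symm
    rw [e, Matrix.aeval_self_charpoly]
  have key : ∀ χ : Cfsg.IrrCharacter G, ∃ p : ℂ[X], ∃ (n : ℕ)
      (ρ : Representation ℂ G (Fin n → ℂ)), ρ.character = (χ : G → ℂ) ∧ p.Monic ∧
      (∀ i, IsIntegral ℤ (p.coeff i)) ∧ (χ ∈ B → p.natDegree ≤ m χ) ∧
      (χ ∈ B → Polynomial.aeval (phi x₀ ρ TC) p * phi x₀ ρ 1 = 0) ∧
      (χ ∉ B → phi x₀ ρ (blockMat X B) = 0) ∧
      (∀ q : ℂ[X], Polynomial.aeval (phi x₀ ρ TC) q * phi x₀ ρ 1 = 0 →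
        ∀ q' : ℂ[X], Polynomial.aeval (phi x₀ ρ TC) (q' * q) * phi x₀ ρ 1 = 0) := by
    intro χ
    obtain ⟨n, ρ, hirr, hρ⟩ := exists_rep χ
    set ε := phi x₀ ρ 1 with hε
    set f := phi x₀ ρ TC with hf
    have hεε : ε * ε = ε := by rw [hε, ← phi_mul x₀ ρ inv_one, one_mul]
    have hεf : ε * f = f := by rw [hε, hf, ← phi_mul x₀ ρ hTCi, one_mul]
    have hfε : f * ε = f := by rw [hε, hf, ← phi_mul x₀ ρ inv_one, mul_one]
    have hidl : ∀ q : ℂ[X], Polynomial.aeval f q * ε = 0 →
        ∀ q' : ℂ[X], Polynomial.aeval f (q' * q) * ε = 0 := fun q h q' => by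
      rw [map_mul, mul_assoc, h, mul_zero]
    by_cases hχ : χ ∈ B
    swap
    · refine ⟨1, n, ρ, hρ, monic_one, fun i => ?_, fun h => absurd h hχ, fun h => absurd h hχ,
        fun _ => ?_, hidl⟩
      · rw [coeff_one]; split_ifs
        exacts [isIntegral_one, isIntegral_zero]
      · rw [phi_blockMat]
        haveI := hirr
        obtain ⟨c, hc⟩ := exists_scalar_of_center ρ (idem B).2
        have h1 := omega_idem B χ
        rw [omega_apply, if_neg hχ, ← hρ, ← trace_asAlgebraHom, hc, map_smul, LinearMap.trace_one,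
          smul_eq_mul, div_eq_zero_iff, mul_eq_zero] at h1
        have hn0 : (Module.finrank ℂ (Fin n → ℂ) : ℂ) ≠ 0 := by
          rw [← Representation.char_one ρ, hρ]; exact char_one_ne_zero χ
        have h2 : c = 0 := (h1.resolve_right (by rw [hρ]; exact char_one_ne_zero χ)).resolve_right hn0
        rw [hc, h2, zero_smul, zero_mul]
    -- the restriction to the fixed vectors
    set W := LinearMap.range ε with hW
    have hmaps : ∀ w ∈ W, f w ∈ W := fun w _ => ⟨f w, by rw [← Module.End.mul_apply, hεf]⟩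
    set f' : Module.End ℂ W := f.restrict hmaps with hf'
    have haev : ∀ (q : ℂ[X]) (w : W), ((Polynomial.aeval f' q w : W) : Fin n → ℂ) =
        Polynomial.aeval f q (w : Fin n → ℂ) := by
      intro q
      induction q using Polynomial.induction_on' with
      | add a b ha hb => intro w; simp [ha, hb]
      | monomial i c =>
        have hp : ∀ (i : ℕ) (w : W), (((f' ^ i) w : W) : Fin n → ℂ) = (f ^ i) (w : Fin n → ℂ) := by
          intro i
          induction i with
          | zero => intro w; simp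
          | succ i ih =>
            intro w
            rw [pow_succ, pow_succ, Module.End.mul_apply, Module.End.mul_apply, ih]
            rfl
        intro w
        simp [Polynomial.aeval_monomial, hp, Algebra.algebraMap_eq_smul_one]
    have hkill : ∀ q : ℂ[X], Polynomial.aeval f' q = 0 ↔ Polynomial.aeval f q * ε = 0 := by
      intro q
      refine ⟨fun h => LinearMap.ext fun z => ?_, fun h => LinearMap.ext fun w => Subtype.ext ?_⟩
      · rw [Module.End.mul_apply, ← haev q ⟨ε z, z, rfl⟩, h]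
        rfl
      · obtain ⟨z, hz⟩ := w.2
        rw [haev, ← hz, ← Module.End.mul_apply, h]
        rfl
    have hP0f : Polynomial.aeval f' (P0.map (algebraMap ℤ ℂ)) = 0 := by
      rw [hkill, hf, hε, ← phi_aeval x₀ ρ hTCi, hP0T, phi_zero]
    have hmin : (minpoly ℂ f').Monic := minpoly.monic (Algebra.IsIntegral.isIntegral f')
    refine ⟨minpoly ℂ f', n, ρ, hρ, hmin, fun i => ?_, fun _ => ?_, fun _ => ?_,
      fun h => absurd hχ h, hidl⟩
    · exact Polynomial.isIntegral_coeff_of_dvd P0 _ hP0m hmin (minpoly.dvd ℂ f' hP0f) i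
    · have hproj : LinearMap.IsProj W ε := ⟨fun z => ⟨z, rfl⟩, by
        rintro _ ⟨z, rfl⟩; rw [← Module.End.mul_apply, hεε]⟩
      have h1 := hproj.trace
      rw [hε, trace_phi_one x₀ ρ hρ, ← hm χ hχ, mul_comm (m χ : ℂ),
        inv_mul_cancel_left₀ (Nat.cast_ne_zero.mpr Nat.card_pos.ne'), Nat.cast_inj] at h1
      refine le_trans (Polynomial.natDegree_le_of_dvd (LinearMap.minpoly_dvd_charpoly f')
        (LinearMap.charpoly_monic f').ne_zero) ?_
      rw [LinearMap.charpoly_natDegree, h1]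
    · exact (hkill _).mp (minpoly.aeval ℂ f')
  choose p N ρ hρ hpm hpi hdeg hon hoff hidl using key
  refine ⟨∏ χ ∈ bset B, p χ, Polynomial.monic_prod_of_monic _ _ fun χ _ => hpm χ, ?_, fun i => ?_, ?_⟩
  · rw [Polynomial.natDegree_prod_of_monic _ _ fun χ _ => hpm χ]
    exact Finset.sum_le_sum fun χ hχ => hdeg χ (mem_bset.mp hχ)
  · induction bset B using Finset.induction_on generalizing i with
    | empty => rw [Finset.prod_empty, coeff_one]; split_ifs; exacts [isIntegral_one, isIntegral_zero]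
    | insert a s ha ih =>
      rw [Finset.prod_insert ha, Polynomial.coeff_mul]
      exact IsIntegral.sum _ fun z _ => (hpi a z.1).mul (ih z.2)
  · refine eq_zero_of_phi x₀ ((hTCi.aeval _).mul (blockMat_inv B)) fun χ => ⟨N χ, ρ χ, hρ χ, ?_⟩
    rw [phi_mul x₀ (ρ χ) (blockMat_inv B), phi_aeval x₀ (ρ χ) hTCi]
    by_cases hχ : χ ∈ B
    · rw [← Finset.prod_erase_mul _ _ (mem_bset.mpr hχ), hidl χ _ (hon χ hχ), zero_mul]
    · rw [hoff χ hχ, mul_zero]

end Cfsg.Agent.Lib.InvolutionFree.Orbital
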