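import Cfsg.Agent.Lib.InvolutionFree.Count
import Cfsg.Agent.Lib.InvolutionFree.Orbital
import Mathlib.Algebra.Polynomial.Lifts

/-!
# A free transitive automizer gives many fixed vectors

In characteristic two the invariant matrices on the class of an involution restrict
multiplicatively to the points fixed by `P`; there a suitable orbital matrix becomes a cycle.
-/

set_option autoImplicit false
set_option linter.style.haveILetI false
set_option linter.unusedSectionVars false

namespace Cfsg.Agent.Lib.InvolutionFree.Hecke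

open Polynomial
open Cfsg.Agent.Lib.Blocks Cfsg.Agent.Lib.Blocks.Contrib
open Cfsg.Agent.Lib.BrauerMap.SecondMain (mem_centralizer_zpowers_iff)
open Cfsg.Agent.Lib.BrauerPairs.Bridge Cfsg.Agent.Lib.BrauerPairs.Center
open Cfsg.Agent.Lib.InvolutionFree.Section Cfsg.Agent.Lib.InvolutionFree.Orbital

universe u

attribute [local instance] Ideal.Quotient.field
set_option synthInstance.maxHeartbeats 200000
set_option maxHeartbeats 1000000

variable {M : Ideal Cfsg.AlgInt} [M.IsMaximal] {G : Type u} [Group G] [Fintype G]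

local notation "Cz" x:max => Subgroup.centralizer ((Subgroup.zpowers (x : G) : Subgroup G) : Set G)

variable {P : Sylow 2 G} (hF : Free P) [Fact (Nat.Prime 2)]
include hF

/-- A 2-element centralizing `P` lies in it. -/
theorem mem_of_commute {t : G} (ht : t ^ 2 = 1) (hc : ∀ v ∈ P, v * t = t * v) : t ∈ P := by
  have hT : IsPGroup 2 (Subgroup.zpowers t) := fun g => ⟨1, by
    obtain ⟨k, hk⟩ := Subgroup.mem_zpowers_iff.mp g.2
    refine Subtype.ext ?_
    rw [SubmonoidClass.coe_pow, ← hk, pow_one, ← zpow_natCast, ← zpow_mul, mul_comm, zpow_mul,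
      zpow_natCast, ht, one_zpow]
    rfl⟩
  have hle : Subgroup.zpowers t ≤ Subgroup.normalizer ((P : Subgroup G) : Set G) :=
    Subgroup.zpowers_le.mpr (Subgroup.centralizer_le_normalizer _ (Subgroup.mem_centralizer_iff.mpr hc))
  have h := P.3 (hT.to_sup_of_normal_right' P.2 hle) le_sup_right
  have h' : t ∈ Subgroup.zpowers t ⊔ (P : Subgroup G) :=
    Subgroup.mem_sup_left (Subgroup.mem_zpowers t)
  rw [h] at h'
  exact h'

/-- A pair of elements is fused by the normalizer. -/
theorem fusion_pair {g v w : G} (hv : v ∈ P) (hw : w ∈ P) (hgv : g * v * g⁻¹ ∈ P)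
    (hgw : g * w * g⁻¹ ∈ P) :
    ∃ t ∈ Subgroup.normalizer ((P : Subgroup G) : Set G),
      t * v * t⁻¹ = g * v * g⁻¹ ∧ t * w * t⁻¹ = g * w * g⁻¹ := by
  set H := Subgroup.centralizer ({g * v * g⁻¹, g * w * g⁻¹} : Set G) with hH
  have h1 : (P : Subgroup G) ≤ H := fun y hy => Subgroup.mem_centralizer_iff.mpr fun z hz => by
    rcases hz with rfl | rfl
    exacts [hF.comm _ hgv y hy, hF.comm _ hgw y hy]
  have h2 : (↑(g • P) : Subgroup G) ≤ H := fun y hy => Subgroup.mem_centralizer_iff.mpr fun z hz => by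
    rw [Sylow.coe_subgroup_smul, Subgroup.mem_pointwise_smul_iff_inv_smul_mem] at hy
    obtain ⟨y', hy', rfl⟩ : ∃ y' ∈ (P : Subgroup G), y = g * y' * g⁻¹ := ⟨_, hy, by
      simp [MulAut.smul_def, mul_assoc]⟩
    have key : ∀ a ∈ P, g * a * g⁻¹ * (g * y' * g⁻¹) = g * y' * g⁻¹ * (g * a * g⁻¹) := fun a ha => by
      calc g * a * g⁻¹ * (g * y' * g⁻¹) = g * (a * y') * g⁻¹ := by group
        _ = g * (y' * a) * g⁻¹ := by rw [hF.comm a ha y' hy']
        _ = _ := by group
    rcases hz with rfl | rfl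
    exacts [key v hv, key w hw]
  obtain ⟨h, hh⟩ := MulAction.exists_smul_eq H ((g • P).subtype h2) (P.subtype h1)
  simp only [Sylow.smul_subtype] at hh
  have h3 : (h : G) • g • P = P := Sylow.subtype_injective hh
  rw [← mul_smul, Sylow.smul_eq_iff_mem_normalizer] at h3
  have key : ∀ a : G, (h : G) * g * a * ((h : G) * g)⁻¹ = (h : G) * (g * a * g⁻¹) * (h : G)⁻¹ :=
    fun a => by group
  refine ⟨(h : G) * g, h3, ?_, ?_⟩
  all_goals rw [key, mul_inv_eq_iff_eq_mul]
  · exact (Subgroup.mem_centralizer_iff.mp h.2 _ (Or.inl rfl)).symm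
  · exact (Subgroup.mem_centralizer_iff.mp h.2 _ (Or.inr rfl)).symm

variable [CharP (Res M) 2] (hM : Cfsg.IsPModular 2 M)
include hM

/-- **The bound.** -/
theorem le_sum_fixed {u : G} (hu : u ∈ P) (hu1 : u ≠ 1) {σ : MulAut (P : Subgroup G)}
    (hσ : σ ∈ (P : Subgroup G).normalizerMonoidHom.range)
    (hord : orderOf σ = Nat.card (P : Subgroup G).normalizerMonoidHom.range)
    (htr : Nat.card (P : Subgroup G).normalizerMonoidHom.range + 1 = Nat.card P)
    [Fintype (Cz u)] (m : Cfsg.IrrCharacter G → ℕ)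
    (hm : ∀ χ ∈ Cfsg.principalBlock M G,
      (m χ : ℂ) * Nat.card (Cz u) = ∑ c : Cz u, (χ : G → ℂ) c) :
    Nat.card (P : Subgroup G).normalizerMonoidHom.range ≤
      ∑ χ ∈ bset (Cfsg.principalBlock M G), m χ := by
  classical
  set A := (P : Subgroup G).normalizerMonoidHom.range with hA
  set e := Nat.card A with he
  set B := Cfsg.principalBlock M G with hB
  have hblk : Cfsg.IsPBlock M B := Cfsg.Agent.Lib.Blocks.isPBlock_principalBlock
  -- the class
  let X := {y : G // IsConj u y}
  letI : MulAction G X :=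
    { smul := fun g y => ⟨g * y.1 * g⁻¹, y.2.trans (isConj_iff.mpr ⟨g, rfl⟩)⟩
      one_smul := fun y => Subtype.ext (show 1 * y.1 * 1⁻¹ = y.1 by group)
      mul_smul := fun g h y => Subtype.ext
        (show g * h * y.1 * (g * h)⁻¹ = g * (h * y.1 * h⁻¹) * g⁻¹ by group) }
  have hsmul : ∀ (g : G) (y : X), (g • y).1 = g * y.1 * g⁻¹ := fun _ _ => rfl
  let x₀ : X := ⟨u, IsConj.refl u⟩
  haveI : MulAction.IsPretransitive G X := ⟨fun y z => by
    obtain ⟨g, hg⟩ := isConj_iff.mp (y.2.symm.trans z.2)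
    exact ⟨g, Subtype.ext hg⟩⟩
  haveI := Fintype.ofFinite X
  -- the nontrivial elements of `P`
  let Y := {v : (P : Subgroup G) // v ≠ 1}
  haveI := Fintype.ofFinite Y
  have hall : ∀ v : Y, IsConj u (v.1 : G) := by
    intro v
    have h1 : Nat.card Y + 1 = Nat.card P := by
      rw [Nat.card_eq_fintype_card, Fintype.card_subtype_compl, Fintype.card_subtype_eq,
        ← Nat.card_eq_fintype_card]
      have := Nat.card_pos (α := (P : Subgroup G))
      omega
    let f : {v : (P : Subgroup G) // v ≠ 1 ∧ IsConj u (v : G)} → Y := fun w => ⟨w.1, w.2.1⟩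
    have hf : Function.Injective f := fun a b h => Subtype.ext (congrArg (fun z : Y => z.1) h)
    have hbij : Function.Bijective f := (Nat.bijective_iff_injective_and_card f).mpr
      ⟨hf, by rw [Count.card_conj hF hu hu1]; change e = _; omega⟩
    obtain ⟨w, hw⟩ := hbij.2 v
    rw [← hw]
    exact w.2.2
  let ι : Y → X := fun v => ⟨v.1, hall v⟩
  have hι : Function.Injective ι := fun a b h =>
    Subtype.ext (Subtype.ext (congrArg (fun z : X => z.1) h))
  let u' : Y := ⟨⟨u, hu⟩, fun h => hu1 (congrArg Subtype.val h)⟩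
  let s : Y → Y := fun v => ⟨σ v.1, fun h => v.2 (σ.map_eq_one_iff.mp h)⟩
  let w₀ : X := ι (s u')
  -- the orbital matrix
  let T : Matrix X X ℤ := Matrix.of fun y z => if ∃ g : G, g • x₀ = y ∧ g • w₀ = z then 1 else 0
  have hT : Inv (G := G) T := fun a y z => by
    simp only [T, Matrix.of_apply]
    refine if_congr ⟨fun ⟨g, h1, h2⟩ => ⟨a⁻¹ * g, ?_, ?_⟩, fun ⟨g, h1, h2⟩ => ⟨a * g, ?_, ?_⟩⟩ rfl rfl
    · rw [mul_smul, h1, inv_smul_smul]
    · rw [mul_smul, h2, inv_smul_smul]
    · rw [mul_smul, h1]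
    · rw [mul_smul, h2]
  have hst : ∀ g : G, g ∈ MulAction.stabilizer G x₀ ↔ g ∈ Cz u := fun g => by
    rw [MulAction.mem_stabilizer_iff, mem_centralizer_zpowers_iff, Subtype.ext_iff, hsmul,
      mul_inv_eq_iff_eq_mul]
    rfl
  obtain ⟨p, hpm, hpd, hpi, hpE⟩ := exists_annihilator x₀ T hT B m fun χ hχ => by
    rw [Nat.card_congr (Equiv.subtypeEquivRight hst)]
    exact (hm χ hχ).trans (Fintype.sum_equiv (Equiv.subtypeEquivRight hst).symm _ _ fun c => rfl)
  -- integral version
  obtain ⟨pR, hpR, hpRd, hpRm⟩ := Polynomial.lifts_and_natDegree_eq_and_monic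
    (f := (localRing M).subtype) (p := p) ((Polynomial.lifts_iff_coeff_lifts p).mpr fun i =>
      ⟨⟨p.coeff i, mem_localRing_of_isIntegral (hpi i)⟩, rfl⟩) hpm
  let ER : Matrix X X (localRing M) := Matrix.of fun y z =>
    ∑ g : G, if g • y = z then (⟨Cfsg.blockCoeff B g, mem_localRing_iff.mpr (memLocalRing_blockCoeff hblk g)⟩ : localRing M) else 0
  have hR : Polynomial.aeval (T.map (Int.cast : ℤ → localRing M)) pR * ER = 0 := by
    have hinj : Function.Injective ((localRing M).subtype.mapMatrix :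
        Matrix X X (localRing M) → Matrix X X ℂ) := fun a b h => by
      ext y z
      exact congrFun (congrFun h y) z
    apply hinj
    rw [map_zero, map_mul, ← hpE]
    congr 1
    · rw [Polynomial.aeval_def, Polynomial.hom_eval₂, Polynomial.aeval_def, ← hpR,
        Polynomial.eval₂_map]
      congr 1
      · ext r y z
        simp [Matrix.algebraMap_matrix_apply, apply_ite (Subtype.val : localRing M → ℂ)]
    · ext y z
      simp only [RingHom.mapMatrix_apply, Matrix.map_apply, ER, Matrix.of_apply, map_sum, blockMat]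
      refine Finset.sum_congr rfl fun g _ => ?_
      split_ifs <;> simp
  -- reduce
  set π : localRing M →+* Res M := residue M with hπ
  let TK : Matrix X X (Res M) := T.map (Int.cast : ℤ → Res M)
  let EK : Matrix X X (Res M) := ER.map π
  set pK : (Res M)[X] := pR.map π with hpK
  have hTK : Inv (G := G) TK := hT.map _
  have hEK : Inv (G := G) EK := by
    intro a y z
    simp only [EK, Matrix.map_apply, ER, Matrix.of_apply]
    refine congrArg π ?_
    refine Fintype.sum_equiv (MulAut.conj a⁻¹).toEquiv _ _ fun g => ?_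
    have e : (MulAut.conj a⁻¹).toEquiv g = a⁻¹ * g * a := by simp
    refine if_congr ?_ (Subtype.ext ?_) rfl
    · rw [e, mul_smul, mul_smul, inv_smul_eq_iff]
    · exact Blocks.blockCoeff_eq_of_isConj B (isConj_iff.mpr ⟨a⁻¹, by rw [e]; group⟩)
  have hK : Polynomial.aeval TK pK * EK = 0 := by
    have h := congrArg π.mapMatrix hR
    rw [map_zero, map_mul] at h
    refine Eq.trans ?_ h
    congr 1
    rw [Polynomial.aeval_def, Polynomial.aeval_def, Polynomial.hom_eval₂, hpK,
      Polynomial.eval₂_map]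
    congr 1
    · ext r y z
      simp [Matrix.algebraMap_matrix_apply, apply_ite π]
    · ext y z
      simp [TK]
  -- the action of `P` and its fixed points
  letI actX : MulAction (P : Subgroup G) X := MulAction.compHom X (P : Subgroup G).subtype
  have hfix : ∀ y : X, y ∈ MulAction.fixedPoints (P : Subgroup G) X ↔ ∃ v : Y, ι v = y := by
    intro y
    constructor
    · intro hy
      have hy2 : (y.1) ^ 2 = 1 := by
        obtain ⟨g, hg⟩ := isConj_iff.mp y.2
        rw [← hg, conj_pow, hF.sq u hu, mul_one, mul_inv_cancel]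
      have hmem : y.1 ∈ P := mem_of_commute hF hy2 fun v hv =>
        mul_inv_eq_iff_eq_mul.mp (congrArg (fun z : X => z.1) (hy ⟨v, hv⟩))
      refine ⟨⟨⟨y.1, hmem⟩, fun h => hu1 ?_⟩, rfl⟩
      have h1 : y.1 = 1 := congrArg Subtype.val h
      exact isConj_one_left.mp (h1 ▸ y.2)
    · rintro ⟨v, rfl⟩ w
      exact Subtype.ext (mul_inv_eq_iff_eq_mul.mpr (hF.comm _ w.2 _ v.1.2))
  let res : Matrix X X (Res M) → Matrix Y Y (Res M) := fun A => A.submatrix ι ι
  have hres : ∀ {A A' : Matrix X X (Res M)}, Inv (G := G) A → Inv (G := G) A' →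
      res (A * A') = res A * res A' := by
    intro A A' hA hA'
    ext y z
    simp only [res, Matrix.submatrix_apply, Matrix.mul_apply]
    have hfy : ∀ (w : (P : Subgroup G)) (v : Y), (w : G) • ι v = ι v := fun w v =>
      (hfix _).mpr ⟨v, rfl⟩ w
    rw [BrauerMap.Basic.sum_eq_sum_fixed (p := 2) P.2 (X := X) _ fun w x => by
      show A (ι y) ((w : G) • x) * A' ((w : G) • x) (ι z) = A (ι y) x * A' x (ι z)
      conv_lhs => rw [← hfy w y, ← hfy w z, hA, hA']]
    refine (Finset.sum_bij (fun v _ => ι v) (fun v _ => ?_) (fun a _ b _ h => hι h) (fun x hx => ?_)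
      fun v _ => rfl).symm
    · exact Finset.mem_filter.mpr ⟨Finset.mem_univ _, (hfix _).mpr ⟨v, rfl⟩⟩
    · obtain ⟨v, hv⟩ := (hfix x).mp (Finset.mem_filter.mp hx).2
      exact ⟨v, Finset.mem_univ _, hv⟩
  -- the idempotent becomes one
  have hE1 : res EK = 1 := by
    ext y z
    simp only [res, Matrix.submatrix_apply, EK, Matrix.map_apply, ER, Matrix.of_apply, map_sum, apply_ite π, map_zero]
    letI : MulAction (P : Subgroup G) G :=
      MulAction.compHom G (MulAut.conj.comp (P : Subgroup G).subtype)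
    have hsm : ∀ (w : (P : Subgroup G)) (g : G), w • g = w * g * (w : G)⁻¹ := fun _ _ => rfl
    have hfy : ∀ (w : (P : Subgroup G)) (v : Y), (w : G) • ι v = ι v := fun w v =>
      (hfix _).mpr ⟨v, rfl⟩ w
    rw [BrauerMap.Basic.sum_eq_sum_fixed (p := 2) P.2 (X := G) _ fun w g => by
      rw [hsm]
      refine if_congr ?_ (congrArg π (Subtype.ext
        (Blocks.blockCoeff_eq_of_isConj B (isConj_iff.mpr ⟨(w : G)⁻¹, by group⟩)))) rfl
      have e : ((w : G)⁻¹) • ι y = ι y := hfy w⁻¹ y
      rw [mul_smul, mul_smul, e]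
      conv_lhs => rw [← hfy w z]
      exact smul_left_cancel_iff _]
    have hfixG : ∀ g : G, g ∈ MulAction.fixedPoints (P : Subgroup G) G ↔
        g ∈ Subgroup.centralizer ((P : Subgroup G) : Set G) := fun g => by
      rw [Subgroup.mem_centralizer_iff]
      exact ⟨fun h v hv => mul_inv_eq_iff_eq_mul.mp (h ⟨v, hv⟩),
        fun h v => mul_inv_eq_iff_eq_mul.mpr (h v v.2)⟩
    have hgy : ∀ g ∈ Subgroup.centralizer ((P : Subgroup G) : Set G), g • ι y = ι y := fun g hg =>
      Subtype.ext (mul_inv_eq_iff_eq_mul.mpr (Subgroup.mem_centralizer_iff.mp hg _ y.1.2).symm)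
    rw [Matrix.one_apply]
    split_ifs with hyz
    · subst hyz
      haveI : IsAlgClosed (Res M) := Blocks.isAlgClosed_residueField
      rw [Finset.sum_congr rfl fun g hg => by
        rw [if_pos (hgy g ((hfixG g).mp (Finset.mem_filter.mp hg).2))]]
      have h := BrauerPairs.Principal.sum_coeff_centralizer (p := 2) P.2
        (BrauerMap.Basic.isFixedBy_of_mem_center (P : Subgroup G)
          (bidem_mem (BrauerPairs.Principal.princ (Res M) G)))
      have h1 : ∑ g : G, (bidem (BrauerPairs.Principal.princ (Res M) G)).coeff g = 1 := by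
        rw [← BrauerPairs.Principal.princ_apply ⟨_, bidem_mem _⟩]
        exact apply_idem_self _
      rw [h1] at h
      refine Eq.trans (Finset.sum_congr (by ext g; simp [hfixG]) fun g _ => ?_) h
      rw [← blk_principalBlock, coeff_bidem]
    · refine Finset.sum_eq_zero fun g hg => if_neg fun h => hyz (hι ?_)
      rw [← h, hgy g ((hfixG g).mp (Finset.mem_filter.mp hg).2)]
  -- the orbital matrix becomes the cycle
  have hcomm : ∀ α ∈ A, σ * α = α * σ := fun α hα => by
    have hz : Subgroup.zpowers σ = A := Subgroup.eq_of_le_of_card_ge (Subgroup.zpowers_le.mpr hσ)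
      (by rw [Nat.card_zpowers, hord])
    obtain ⟨k, rfl⟩ : α ∈ Subgroup.zpowers σ := hz.symm ▸ hα
    exact (Commute.self_zpow σ k).eq
  let Z : Matrix Y Y (Res M) := fun y z => if z = s y then 1 else 0
  have hT1 : res TK = Z := by
    ext y z
    simp only [res, Matrix.submatrix_apply, TK, Matrix.map_apply, T, Matrix.of_apply, apply_ite (Int.cast : ℤ → Res M),
      Int.cast_one, Int.cast_zero, Z]
    refine if_congr ⟨?_, fun hz => ?_⟩ rfl rfl
    · rintro ⟨g, h1, h2⟩
      have h1' : g * u * g⁻¹ = (y.1 : G) := congrArg (fun x : X => x.1) h1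
      have h2' : g * ((σ ⟨u, hu⟩ : (P : Subgroup G)) : G) * g⁻¹ = (z.1 : G) :=
        congrArg (fun x : X => x.1) h2
      obtain ⟨t, ht, e1, e2⟩ := fusion_pair hF (g := g) hu (σ ⟨u, hu⟩).2 (h1' ▸ y.1.2) (h2' ▸ z.1.2)
      set τ := (P : Subgroup G).normalizerMonoidHom ⟨t, ht⟩
      have hy : τ ⟨u, hu⟩ = y.1 := Subtype.ext (e1.trans h1')
      have hz : τ (σ ⟨u, hu⟩) = z.1 := Subtype.ext (e2.trans h2')
      refine Subtype.ext ?_
      show z.1 = σ y.1
      rw [← hy, ← hz, ← MulAut.mul_apply, ← MulAut.mul_apply, hcomm τ ⟨⟨t, ht⟩, rfl⟩]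
    · obtain ⟨t, ht, e1⟩ := hF.fusion hu y.1.2 (hall y)
      set τ := (P : Subgroup G).normalizerMonoidHom ⟨t, ht⟩
      have hy : τ ⟨u, hu⟩ = y.1 := Subtype.ext e1
      refine ⟨t, Subtype.ext e1, Subtype.ext ?_⟩
      rw [hz]
      show ((τ (σ ⟨u, hu⟩) : (P : Subgroup G)) : G) = ((σ y.1 : (P : Subgroup G)) : G)
      rw [← hy, ← MulAut.mul_apply, ← MulAut.mul_apply, hcomm τ ⟨⟨t, ht⟩, rfl⟩]
  have hpowres : ∀ i : ℕ, Inv (G := G) (TK ^ i) ∧ res (TK ^ i) = Z ^ i := fun i => by
    induction i with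
    | zero =>
      refine ⟨by rw [pow_zero]; exact inv_one, ?_⟩
      simp only [pow_zero, res, Matrix.submatrix_one ι hι]
    | succ i ih =>
      refine ⟨by rw [pow_succ]; exact ih.1.mul hTK, ?_⟩
      rw [pow_succ, hres ih.1 hTK, ih.2, hT1, pow_succ]
  have hZ : Polynomial.aeval Z pK = 0 := by
    have h := congrArg res hK
    rw [hres (hTK.aeval _) hEK, hE1, mul_one] at h
    refine Eq.trans ?_ (h.trans (by simp [res]))
    ext y z
    simp only [res, Matrix.submatrix_apply, Polynomial.aeval_eq_sum_range, Matrix.sum_apply,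
      Matrix.smul_apply]
    refine Finset.sum_congr rfl fun i _ => ?_
    rw [← (hpowres i).2]
    rfl
  -- too few
  have hsi : ∀ i : ℕ, (s^[i] u').1 = (σ ^ i) u'.1 := fun i => by
    induction i with
    | zero => rfl
    | succ i ih =>
      rw [Function.iterate_succ_apply', pow_succ', MulAut.mul_apply, ← ih]
  have hZpow : ∀ (i : ℕ) (y z : Y), (Z ^ i) y z = if z = s^[i] y then 1 else 0 := fun i => by
    induction i with
    | zero => intro y z; simp [Matrix.one_apply, eq_comm]
    | succ i ih =>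
      intro y z
      rw [pow_succ, Matrix.mul_apply, Finset.sum_eq_single (s^[i] y)]
      · rw [ih, if_pos rfl, one_mul, Function.iterate_succ_apply']
      · intro b _ hb; rw [ih, if_neg hb, zero_mul]
      · exact fun h => absurd (Finset.mem_univ _) h
  by_contra hlt
  have hd : pK.natDegree < e := by
    have h1 : pK.natDegree ≤ p.natDegree := (Polynomial.natDegree_map_le).trans hpRd.le
    omega
  have hmon : pK.Monic := hpRm.map π
  set d := pK.natDegree with hdd
  have h := congrFun (congrFun hZ u') (s^[d] u')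
  rw [Polynomial.aeval_eq_sum_range, Matrix.sum_apply, Matrix.zero_apply,
    Finset.sum_eq_single d] at h
  · rw [Matrix.smul_apply, hZpow, if_pos rfl, smul_eq_mul, mul_one] at h
    exact one_ne_zero (hmon.leadingCoeff ▸ h : (1 : Res M) = 0)
  · intro i hi hid
    rw [Matrix.smul_apply, hZpow, if_neg, smul_zero]
    intro h'
    have h2 : (σ ^ d) u'.1 = (σ ^ i) u'.1 := by rw [← hsi, ← hsi, h']
    obtain ⟨t, ht⟩ := (mul_mem (inv_mem (pow_mem hσ i)) (pow_mem hσ d) : (σ ^ i)⁻¹ * σ ^ d ∈ A)
    have hfix' : ((σ ^ i)⁻¹ * σ ^ d) u'.1 = u'.1 := by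
      rw [MulAut.mul_apply, h2]; exact MulEquiv.symm_apply_apply _ _
    rw [← ht] at hfix'
    have hc := hF.free t t.2 u hu hu1 (mul_inv_eq_iff_eq_mul.mp (congrArg Subtype.val hfix'))
    have h3 : σ ^ i = σ ^ d := inv_mul_eq_one.mp (by
      rw [← ht]
      exact MulEquiv.ext fun v => Subtype.ext (mul_inv_eq_iff_eq_mul.mpr (hc v v.2)))
    have hi' : i < d + 1 := Finset.mem_range.mp hi
    exact hid (pow_injOn_Iio_orderOf (Set.mem_Iio.mpr (by omega)) (Set.mem_Iio.mpr (by omega)) h3)
  · exact fun h' => absurd (Finset.mem_range.mpr (Nat.lt_succ_self d)) h'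

end Cfsg.Agent.Lib.InvolutionFree.Hecke
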