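import Cfsg.Agent.Lib.BrauerMap.PrincipalSection
import Cfsg.Agent.Lib.PrincipalFew.Basic
import Cfsg.Agent.Lib.StarChar.Free
import Cfsg.Agent.Lib.ElemNine.Local
import Cfsg.Agent.Lib.Fg6.NormThree
import Cfsg.Agent.Lib.Induced.Character

/-!
# The principal block on the sections of a free elementary abelian Sylow 2-subgroup

If no nontrivial element of `P` is centralized by an element of `N(P)` outside `C(P)`, the
centralizers of these elements have normal complements, so the characters of the principal block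
are constant integers on the sections.
-/

set_option autoImplicit false
set_option linter.style.haveILetI false
set_option linter.unusedSectionVars false

namespace Cfsg.Agent.Lib.InvolutionFree.Section

open scoped ComplexConjugate
open Cfsg.Agent.Lib.Blocks Cfsg.Agent.Lib.Blocks.Contrib Cfsg.Agent.Lib.Blocks.SectionPart
open Cfsg.Agent.Lib.BrauerMap.PrincipalSection
open Cfsg.Agent.Lib.BrauerMap.SecondMain (mem_centralizer_zpowers_iff)
open Cfsg.Agent.Lib.BrauerPairs Cfsg.Agent.Lib.BrauerPairs.Principal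
open Cfsg.Agent.Lib.BrauerPairs.Bridge
open Cfsg.Agent.Lib.Characters.Basic Cfsg.Agent.Lib.Characters.Kernel

universe u

attribute [local instance] Ideal.Quotient.field

variable {M : Ideal Cfsg.AlgInt} [M.IsMaximal] {G : Type u} [Group G] [Finite G]

local notation "Cz" x:max => Subgroup.centralizer ((Subgroup.zpowers (x : G) : Subgroup G) : Set G)

/-- An elementary abelian Sylow subgroup with free automizer. -/
structure Free (P : Sylow 2 G) : Prop where
  sq : ∀ x ∈ P, x ^ 2 = 1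
  free : ∀ t ∈ Subgroup.normalizer ((P : Subgroup G) : Set G), ∀ u ∈ P, u ≠ 1 → t * u = u * t →
    ∀ v ∈ P, t * v = v * t

variable {P : Sylow 2 G} (hF : Free P)
include hF

theorem Free.comm : ∀ x ∈ P, ∀ y ∈ P, x * y = y * x := ElemNine.Local.commute_of_sq hF.sq

theorem Free.inv_eq {x : G} (hx : x ∈ P) : x⁻¹ = x :=
  inv_eq_of_mul_eq_one_right (by rw [← pow_two]; exact hF.sq x hx)

theorem Free.le_centralizer {u : G} (hu : u ∈ P) : (P : Subgroup G) ≤ Cz u :=
  SubsectionCount.le_centralizer_zpowers hF.comm hu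

theorem Free.pelt {u : G} (hu : u ∈ P) : ∃ k : ℕ, orderOf u = 2 ^ k := by
  haveI : Fact (Nat.Prime 2) := ⟨Nat.prime_two⟩
  obtain ⟨k, hk⟩ := IsPGroup.iff_orderOf.mp P.2 ⟨u, hu⟩
  exact ⟨k, by rw [← hk, Subgroup.orderOf_mk]⟩

variable [Fact (Nat.Prime 2)]

/-- Every 2-element has square one. -/
theorem Free.sq_of_pelt {t : G} (ht : ∃ k : ℕ, orderOf t = 2 ^ k) : t ^ 2 = 1 := by
  obtain ⟨k, hk⟩ := ht
  obtain ⟨S, hS⟩ := (IsPGroup.of_card (n := k) (by rw [Nat.card_zpowers, hk]) :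
    IsPGroup 2 (Subgroup.zpowers t)).exists_le_sylow
  obtain ⟨g, hg⟩ := MulAction.exists_smul_eq G S P
  have h : g * t * g⁻¹ ∈ (P : Subgroup G) := by
    rw [← hg, Sylow.coe_subgroup_smul]
    exact Subgroup.smul_mem_pointwise_smul _ (MulAut.conj g) _ (hS (Subgroup.mem_zpowers t))
  have h2 := hF.sq _ h
  rw [conj_pow] at h2
  exact conj_eq_one_iff.mp h2

/-- A retraction with the regular elements as kernel. -/
theorem Free.exists_retract {u : G} (hu : u ∈ P) (hu1 : u ≠ 1) :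
    ∃ r : Cz u →* (P : Subgroup G), (∀ c : Cz u, (c : G) ∈ P → (r c : G) = c) ∧
      (∀ c, r c = 1 ↔ ¬ 2 ∣ orderOf c) ∧ r.ker.index = Nat.card P ∧
      ∀ c, ∃ s : G, ¬ 2 ∣ orderOf s ∧ Commute (r c : G) s ∧ IsConj (c : G) ((r c : G) * s) := by
  classical
  set H := Cz u
  have hle : (P : Subgroup G) ≤ H := hF.le_centralizer hu
  set S := P.subtype hle with hS
  have hmem : ∀ c : H, c ∈ S ↔ (c : G) ∈ P := fun c => Iff.rfl
  have hP : Subgroup.normalizer ((S : Subgroup H) : Set H) ≤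
      Subgroup.centralizer ((S : Subgroup H) : Set H) := by
    intro t ht
    rw [Subgroup.mem_centralizer_iff]
    intro v hv
    refine Subtype.ext ?_
    exact (hF.free t (ElemNine.Local.mem_normalizer_of_subtype hle ht) u hu hu1
      (mem_centralizer_zpowers_iff.mp t.2).eq v hv).symm
  set τ := MonoidHom.transferSylow S hP with hτ
  have hodd : ¬ 2 ∣ (S : Subgroup H).index := S.not_dvd_index
  have hfix : ∀ c : H, c ∈ S → (τ c : H) = c := by
    intro c hc
    rw [hτ, MonoidHom.transferSylow_eq_pow S hP c hc]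
    show c ^ (S : Subgroup H).index = c
    obtain ⟨m, hm⟩ := (Nat.not_even_iff_odd.mp fun h => hodd (even_iff_two_dvd.mp h))
    have h2 : c ^ 2 = 1 := Subtype.ext (hF.sq c hc)
    rw [hm, pow_succ, pow_mul, h2, one_pow, one_mul]
  let ι : (S : Subgroup H) →* (P : Subgroup G) :=
    (H.subtype.comp (S : Subgroup H).subtype).codRestrict (P : Subgroup G) fun s => s.2
  set r : H →* (P : Subgroup G) := ι.comp τ with hr
  have hrfix : ∀ c : H, (c : G) ∈ P → (r c : G) = c := fun c hc =>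
    congrArg (fun z : H => (z : G)) (hfix c hc)
  have hker : ∀ c, r c = 1 ↔ τ c = 1 := fun c => by
    refine ⟨fun h => Subtype.ext (Subtype.ext ?_), fun h => by rw [hr, MonoidHom.comp_apply, h, map_one]⟩
    exact congrArg (fun z : (P : Subgroup G) => (z : G)) h
  have hcard := MonoidHom.not_dvd_card_ker_transferSylow S hP
  have hreg : ∀ c, r c = 1 ↔ ¬ 2 ∣ orderOf c := by
    intro c
    rw [hker]
    refine ⟨fun h hd => hcard (hd.trans ?_), fun h => ?_⟩
    · rw [← Subgroup.orderOf_mk c (show c ∈ τ.ker from h)]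
      exact orderOf_dvd_natCard _
    · obtain ⟨k, hk⟩ := IsPGroup.iff_orderOf.mp S.2 (τ c)
      rcases Nat.eq_zero_or_pos k with rfl | hk0
      · exact orderOf_eq_one_iff.mp (by rwa [pow_zero] at hk)
      · exact absurd ((hk ▸ dvd_pow_self 2 hk0.ne').trans (orderOf_map_dvd τ c)) h
  refine ⟨r, hrfix, hreg, ?_, fun c => ?_⟩
  · have hsurj : Function.Surjective r := fun v =>
      ⟨⟨v, hle v.2⟩, Subtype.ext (hrfix ⟨v, hle v.2⟩ v.2)⟩
    rw [Subgroup.index_ker, MonoidHom.range_eq_top.mpr hsurj, Subgroup.card_top]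
  · -- move the 2-part into the Sylow subgroup
    obtain ⟨t, ht⟩ := exists_isPPart (p := 2) Nat.prime_two c
    obtain ⟨s, hts, hcts, ⟨k, hk⟩, hs⟩ := ht
    obtain ⟨S', hS'⟩ := (IsPGroup.of_card (n := k) (by rw [Nat.card_zpowers, hk]) :
      IsPGroup 2 (Subgroup.zpowers t)).exists_le_sylow
    obtain ⟨o, ho⟩ := MulAction.exists_smul_eq H S' S
    have h : o * t * o⁻¹ ∈ (S : Subgroup H) := by
      rw [← ho, Sylow.coe_subgroup_smul]
      exact Subgroup.smul_mem_pointwise_smul _ (MulAut.conj o) _ (hS' (Subgroup.mem_zpowers t))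
    have hrc : r (o * t * o⁻¹) = r c := by
      rw [← hts, map_mul, map_mul, map_mul, (hreg s).mpr hs, mul_one, map_inv]
      refine Subtype.ext ?_
      simp only [Subgroup.coe_mul, InvMemClass.coe_inv]
      rw [hF.comm _ (r o).2 _ (r t).2, mul_inv_cancel_right]
    have e : (r c : G) = ((o * t * o⁻¹ : H) : G) := by rw [← hrc, hrfix (o * t * o⁻¹) ((hmem _).mp h)]
    refine ⟨((o * s * o⁻¹ : H) : G), ?_, ?_, isConj_iff.mpr ⟨o, ?_⟩⟩
    · rwa [Subgroup.orderOf_coe, ← MulAut.conj_apply, MulEquiv.orderOf_eq]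
    · rw [e]
      exact ((hcts.map (MulAut.conj o).toMonoidHom)).map H.subtype
    · rw [e, ← hts]
      simp [mul_assoc]

variable [CharP (Res M) 2]

theorem Free.blockSet {u : G} (hu : u ∈ P) (hu1 : u ≠ 1) (hM : Cfsg.IsPModular 2 M)
    {r : Cz u →* (P : Subgroup G)} (hreg : ∀ c, r c = 1 ↔ ¬ 2 ∣ orderOf c)
    (hidx : r.ker.index = Nat.card P) :
    Cfsg.principalBlock M (Cz u) =
      {θ : Cfsg.IrrCharacter (Cz u) | ∀ n ∈ r.ker, (θ : Cz u → ℂ) n = (θ : Cz u → ℂ) 1} := by
  refine principalBlock_eq_trivialOn hM r.ker (fun hd => ?_) ?_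
  · obtain ⟨w, hw⟩ := exists_prime_orderOf_dvd_card' 2 hd
    refine (hreg w).mp w.2 ?_
    rw [Subgroup.orderOf_coe, hw]
  · obtain ⟨k, hk⟩ := IsPGroup.iff_card.mp P.2
    exact ⟨k, hidx.trans hk⟩

/-- **The values on a section.** -/
theorem Free.apply_mul_regular {u s : G} (hu : u ∈ P) (hu1 : u ≠ 1) (hM : Cfsg.IsPModular 2 M)
    (hs : ¬ 2 ∣ orderOf s) (hc : Commute u s) :
    (∀ χ ∈ Cfsg.principalBlock M G, (χ : G → ℂ) (u * s) = (χ : G → ℂ) u) ∧
      ∑ χ ∈ bset (Cfsg.principalBlock M G), (χ : G → ℂ) u * conj ((χ : G → ℂ) u) =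
        (Nat.card P : ℂ) := by
  classical
  obtain ⟨r, -, hreg, hidx, -⟩ := hF.exists_retract hu hu1
  haveI := Fintype.ofFinite (Cz u)
  have hblk := hF.blockSet hu hu1 hM hreg hidx
  set z : Cz u := ⟨u, hF.le_centralizer hu hu⟩ with hz
  set s' : Cz u := ⟨s, mem_centralizer_zpowers_iff.mpr hc.symm⟩ with hs'
  have hsK : r s' = 1 := (hreg s').mpr (by rwa [← Subgroup.orderOf_coe])
  have hzc : ∀ g : Cz u, Commute z g := fun g =>
    Subtype.ext (mem_centralizer_zpowers_iff.mp g.2).symm.eq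
  have hpz : Cfsg.IsPPart 2 (u : G) u := isPPart_self Nat.prime_two (hF.pelt hu)
  have hpzs : Cfsg.IsPPart 2 (u * s) u := ⟨s, rfl, hc, hF.pelt hu, hs⟩
  -- every member of the local block is constant on the coset
  have hconst : ∀ θ ∈ Cfsg.principalBlock M (Cz u),
      (θ : Cz u → ℂ) (z * s') = (θ : Cz u → ℂ) z := by
    intro θ hθ
    rw [hblk] at hθ
    exact (apply_mul_of_apply_eq_one (isCharacter_irr θ) (hθ s' hsK) z).2
  have hT : ∑ᶠ θ ∈ Cfsg.principalBlock M (Cz u),
      (θ : Cz u → ℂ) z * (θ : Cz u → ℂ) z⁻¹ = (Nat.card P : ℂ) := by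
    rw [← hidx, ← sum_sq_trivialOn r.ker, ← hblk]
    refine finsum_congr fun θ => finsum_congr fun _ => ?_
    have h := char_central_mul_mul_inv hzc θ 1
    rwa [mul_one, inv_one] at h
  have hsum : ∀ g h : Cz u, (g = z ∨ g = z * s') → (h = z ∨ h = z * s') →
      ∑ χ ∈ bset (Cfsg.principalBlock M G),
        (χ : G → ℂ) g * conj ((χ : G → ℂ) h) = (Nat.card P : ℂ) := by
    intro g h hg hh
    have h1 := sum_principal_section_aux hM (z := u) (H := Cz u) rfl g h
      (by rcases hg with rfl | rfl <;> assumption) (by rcases hh with rfl | rfl <;> assumption)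
    rw [finsum_mem_eq_finite_toFinset_sum _ (Set.toFinite _)] at h1
    refine Eq.trans ?_ (h1.trans (Eq.trans ?_ hT))
    · exact Finset.sum_congr rfl fun χ _ => by rw [apply_inv (isCharacter_irr χ)]
    · refine finsum_congr fun θ => finsum_congr fun hθ => ?_
      rw [apply_inv (isCharacter_irr θ), apply_inv (isCharacter_irr θ)]
      rcases hg with rfl | rfl <;> rcases hh with rfl | rfl <;> simp only [hconst θ hθ]
  refine ⟨fun χ hχ => ?_, hsum z z (.inl rfl) (.inl rfl)⟩
  have h11 := hsum z z (.inl rfl) (.inl rfl)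
  have h12 := hsum z (z * s') (.inl rfl) (.inr rfl)
  have h21 := hsum (z * s') z (.inr rfl) (.inl rfl)
  have h22 := hsum (z * s') (z * s') (.inr rfl) (.inr rfl)
  have h0 : ∑ χ ∈ bset (Cfsg.principalBlock M G),
      (Complex.normSq ((χ : G → ℂ) (u * s) - (χ : G → ℂ) u) : ℂ) = 0 := by
    simp only [Complex.normSq_eq_conj_mul_self, map_sub, sub_mul, mul_sub, Finset.sum_sub_distrib]
    simp only [mul_comm (conj ((_ : G → ℂ) _))]
    simp only [hz, hs', Subgroup.coe_mul] at h11 h12 h21 h22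
    rw [h11, h12, h21, h22]
    ring
  rw [← Complex.ofReal_sum, Complex.ofReal_eq_zero] at h0
  exact sub_eq_zero.mp (Complex.normSq_eq_zero.mp
    ((Finset.sum_eq_zero_iff_of_nonneg fun χ _ => Complex.normSq_nonneg _).mp h0 χ
      (mem_bset.mpr hχ)))

/-- The sums over a nontrivial fibre of the retraction. -/
theorem Free.apply_fibre {u : G} (hM : Cfsg.IsPModular 2 M) {r : Cz u →* (P : Subgroup G)}
    (hconj : ∀ c, ∃ s : G, ¬ 2 ∣ orderOf s ∧ Commute (r c : G) s ∧
      IsConj (c : G) ((r c : G) * s)) {c : Cz u} (hc : r c ≠ 1)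
    {χ : Cfsg.IrrCharacter G} (hχ : χ ∈ Cfsg.principalBlock M G) :
    (χ : G → ℂ) c = (χ : G → ℂ) (r c) := by
  obtain ⟨s, hs, hcs, hcj⟩ := hconj c
  rw [char_eq_of_isConj χ hcj]
  exact (hF.apply_mul_regular (r c).2 (fun e => hc (Subtype.ext e)) hM hs hcs).1 χ hχ

/-- Conjugate in the group, conjugate under the normalizer. -/
theorem Free.fusion {v w : G} (hv : v ∈ P) (hw : w ∈ P) (h : IsConj v w) :
    ∃ t ∈ Subgroup.normalizer ((P : Subgroup G) : Set G), t * v * t⁻¹ = w := by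
  obtain ⟨g, hg⟩ := isConj_iff.mp h
  haveI : IsMulCommutative (P : Subgroup G) :=
    ⟨⟨fun a b => Subtype.ext (hF.comm a a.2 b b.2)⟩⟩
  obtain ⟨n, hn, he⟩ := P.conj_eq_normalizer_conj_of_mem v g⁻¹ hv (by rw [inv_inv, hg]; exact hw)
  rw [inv_inv, hg] at he
  exact ⟨n⁻¹, inv_mem hn, by rw [inv_inv, he]⟩

/-- **Orthogonality of the sections.** -/
theorem Free.sum_mul {v w : G} (hv : v ∈ P) (hw : w ∈ P) (hv1 : v ≠ 1) (hM : Cfsg.IsPModular 2 M)
    [Decidable (IsConj v w)] :
    ∑ χ ∈ bset (Cfsg.principalBlock M G), (χ : G → ℂ) v * (χ : G → ℂ) w =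
      if IsConj v w then (Nat.card P : ℂ) else 0 := by
  have hreal : ∀ χ : Cfsg.IrrCharacter G, conj ((χ : G → ℂ) w) = (χ : G → ℂ) w := fun χ => by
    rw [← apply_inv (isCharacter_irr χ), hF.inv_eq hw]
  split_ifs with h
  · rw [← (hF.apply_mul_regular (s := 1) hv hv1 hM (by simp) (Commute.one_right v)).2]
    refine Finset.sum_congr rfl fun χ _ => ?_
    rw [char_eq_of_isConj χ h, hreal]
  · have h0 := sum_block_eq_zero hM (isPPart_self Nat.prime_two (hF.pelt hv))
      (isPPart_self Nat.prime_two (hF.pelt hw)) h (Cfsg.Agent.Lib.Blocks.isPBlock_principalBlock (M := M) (G := G))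
    rw [finsum_mem_eq_finite_toFinset_sum _ (Set.toFinite _)] at h0
    refine Eq.trans (Finset.sum_congr rfl fun χ _ => ?_) h0
    rw [apply_inv (isCharacter_irr χ), hreal]

/-- **No value is zero.** -/
theorem Free.apply_ne_zero {u : G} (hu : u ∈ P) (hu1 : u ≠ 1) (hM : Cfsg.IsPModular 2 M)
    {χ : Cfsg.IrrCharacter G} (hχ : χ ∈ Cfsg.principalBlock M G) : (χ : G → ℂ) u ≠ 0 := by
  classical
  intro h0
  haveI := Fintype.ofFinite G
  obtain ⟨r, -, hreg, hidx, -⟩ := hF.exists_retract hu hu1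
  haveI := Fintype.ofFinite (Cz u)
  have hblk := hF.blockSet hu hu1 hM hreg hidx
  obtain ⟨s, hs, hne⟩ := StarChar.Free.exists_phi_ne_zero_central hM
    (Cfsg.Agent.Lib.Blocks.isPBlock_principalBlock (M := M) (G := G)) hχ (top_princ (k := Res M) P)
    (by rw [blk_principalBlock]; exact pairOf_princ P.2) hu
    (Subgroup.mem_centralizer_iff.mpr fun v hv => hF.comm v hv u hu)
    (princ (Res M) (Cz u)) (le_princ P.2 (Subgroup.zpowers_le.mpr hu))
  apply hne
  rw [StarChar.Section.phi, ElemNine.Local.toSet_princ, BlockPart.blockPart_apply]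
  have hθ1 : ∀ θ ∈ (Set.toFinite (Cfsg.principalBlock M (Cz u))).toFinset,
      (θ : Cz u → ℂ) s = (θ : Cz u → ℂ) 1 := fun θ hθ => by
    rw [Set.Finite.mem_toFinset, hblk] at hθ
    exact hθ s ((hreg s).mpr hs)
  rw [Finset.sum_congr rfl fun θ hθ => by rw [hθ1 θ hθ]]
  simp only [Cfsg.classInner, mul_assoc, Finset.sum_mul, ← Finset.mul_sum]
  rw [Finset.sum_comm]
  simp only [← Finset.mul_sum, mul_comm (conj _)]
  refine mul_eq_zero.mpr (Or.inr (Finset.sum_eq_zero fun c _ => ?_))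
  by_cases hc : r c = 1
  · have h1 := (hF.apply_mul_regular hu hu1 hM (s := (c : G))
      (by rw [Subgroup.orderOf_coe]; exact (hreg c).mp hc)
      (mem_centralizer_zpowers_iff.mp c.2).symm).1 χ hχ
    rw [sect_apply, h1, h0, zero_mul]
  · have h1 := BrauerMap.Inflation.blockCoeff_trivialOn r.ker c
    rw [if_neg (show c ∉ r.ker from hc), Cfsg.blockCoeff, mul_eq_zero, inv_eq_zero] at h1
    have h2 := h1.resolve_left (Nat.cast_ne_zero.mpr Nat.card_pos.ne')
    rw [← hblk, finsum_mem_eq_finite_toFinset_sum _ (Set.toFinite _)] at h2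
    rw [h2, mul_zero]

end Cfsg.Agent.Lib.InvolutionFree.Section
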